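import Cfsg.Agent.Lib.Recog.AltSubconstituent.Pair

/-!
# The conjugates of the common kernel
-/

set_option autoImplicit false
set_option linter.unusedSectionVars false

namespace Cfsg.Lib.Recog.AltSub

open Equiv Equiv.Perm Subgroup

universe u

variable {G : Type u} [Group G] {n : ℕ} (P : Pair G n)

/-- The common kernel. -/
abbrev Pair.N : Subgroup G := P.K ⊓ P.symm.K

/-- No nontrivial subgroup of the common kernel is normal in the first subgroup. -/
def Pair.CoreTriv : Prop := ∀ X : Subgroup G, X ≤ P.N → P.H ≤ normalizer (X : Set G) → X = ⊥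

/-- A conjugate. -/
def conjg (g : G) (X : Subgroup G) : Subgroup G := X.map (MulAut.conj g).toMonoidHom

theorem mem_conjg {g x : G} {X : Subgroup G} : x ∈ conjg g X ↔ g⁻¹ * x * g ∈ X := by
  constructor
  · rintro ⟨y, hy, rfl⟩
    show g⁻¹ * (g * y * g⁻¹) * g ∈ X
    simpa [mul_assoc] using hy
  · intro h
    exact ⟨_, h, show g * (g⁻¹ * x * g) * g⁻¹ = x by group⟩

theorem conjg_mul (g g' : G) (X : Subgroup G) : conjg (g * g') X = conjg g (conjg g' X) := by
  ext x
  simp only [mem_conjg, mul_inv_rev, mul_assoc]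

theorem conjg_one (X : Subgroup G) : conjg (1 : G) X = X := by
  ext x
  simp [mem_conjg]

theorem conjg_mono (g : G) {X Y : Subgroup G} (h : X ≤ Y) : conjg g X ≤ conjg g Y := map_mono h

theorem card_conjg (g : G) (X : Subgroup G) : Nat.card (conjg g X) = Nat.card X :=
  Nat.card_congr (X.equivMapOfInjective _ (MulAut.conj g).injective).toEquiv.symm

theorem conjg_eq_self {g : G} {X : Subgroup G} (h : g ∈ normalizer (X : Set G)) : conjg g X = X := by
  ext x
  rw [mem_conjg, mem_normalizer_iff.mp h]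
  simp [mul_assoc]

theorem mem_normalizer_of_conjg_eq {g : G} {X : Subgroup G} (h : conjg g X = X) :
    g ∈ normalizer (X : Set G) := by
  rw [mem_normalizer_iff]
  intro x
  conv_rhs => rw [← h, mem_conjg]
  simp [mul_assoc]

theorem le_normalizer_conjg {g : G} {X Y : Subgroup G} (hY : Y ≤ normalizer (X : Set G))
    (hg : g ∈ normalizer (Y : Set G)) : Y ≤ normalizer ((conjg g X : Subgroup G) : Set G) := by
  intro y hy
  rw [mem_normalizer_iff]
  intro x
  rw [mem_conjg, mem_conjg]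
  have h : g⁻¹ * y * g ∈ Y := ((mem_normalizer_iff''.mp hg) y).mp hy
  rw [show g⁻¹ * (y * x * y⁻¹) * g = g⁻¹ * y * g * (g⁻¹ * x * g) * (g⁻¹ * y * g)⁻¹ by group]
  exact mem_normalizer_iff.mp (hY h) _

theorem le_normalizer_inf {A X Y : Subgroup G} (hX : A ≤ normalizer (X : Set G))
    (hY : A ≤ normalizer (Y : Set G)) : A ≤ normalizer ((X ⊓ Y : Subgroup G) : Set G) := by
  intro a ha
  rw [mem_normalizer_iff]
  intro x
  rw [mem_inf, mem_inf, mem_normalizer_iff.mp (hX ha) x, mem_normalizer_iff.mp (hY ha) x]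

theorem commute_of_inf_eq_bot {X Y : Subgroup G} (h : X ⊓ Y = ⊥) (hX : Y ≤ normalizer (X : Set G))
    (hY : X ≤ normalizer (Y : Set G)) : ∀ x ∈ X, ∀ y ∈ Y, x * y = y * x := by
  intro x hx y hy
  have h1 : x * y * x⁻¹ * y⁻¹ ∈ X ⊓ Y := by
    refine ⟨?_, mul_mem ((mem_normalizer_iff.mp (hY hx) y).mp hy) (Y.inv_mem hy)⟩
    rw [show x * y * x⁻¹ * y⁻¹ = x * (y * x⁻¹ * y⁻¹) by group]
    exact mul_mem hx ((mem_normalizer_iff.mp (hX hy) x⁻¹).mp (X.inv_mem hx))
  rw [h, mem_bot, mul_inv_eq_one, mul_inv_eq_iff_eq_mul] at h1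
  exact h1

variable [Finite G]

theorem Pair.D_le_normalizer_symm_K : P.D ≤ normalizer (P.symm.K : Set G) :=
  (inf_comm P.H P.L).trans_le P.symm.D_le_normalizer_K

theorem Pair.D_le_normalizer_N : P.D ≤ normalizer ((P.N : Subgroup G) : Set G) :=
  le_normalizer_inf P.D_le_normalizer_K P.D_le_normalizer_symm_K

theorem Pair.K_le_symm_D : P.K ≤ P.symm.D := P.K_le_D.trans_eq (inf_comm _ _)

theorem Pair.symm_le_K_of_comm (hne : P.K ≠ ⊥) {X : Subgroup G} (hX : X ≤ P.K)
    (hN : P.K ≤ normalizer (X : Set G)) (hc : ∀ x ∈ X, ∀ y ∈ X, x * y = y * x) : X ≤ P.symm.K :=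
  P.symm.le_K_of_comm (hX.trans P.K_le_symm_D) P.K_le_symm_D
    (P.symm.alt_le_img (P.symm_K_ne_bot hne)) hN hc

/-- An element of the first kernel all of whose conjugates lie in the common kernel is trivial. -/
theorem Pair.eq_one_of_all_conj (hc : P.CoreTriv) {k : G}
    (hk : ∀ h ∈ P.H, h * k * h⁻¹ ∈ P.N) : k = 1 := by
  let X : Subgroup G :=
    { carrier := {x | ∀ h ∈ P.H, h * x * h⁻¹ ∈ P.N}
      one_mem' := fun h _ => by simp
      mul_mem' := fun {x y} hx hy h hh => by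
        rw [show h * (x * y) * h⁻¹ = h * x * h⁻¹ * (h * y * h⁻¹) by group]
        exact mul_mem (hx h hh) (hy h hh)
      inv_mem' := fun {x} hx h hh => by
        rw [show h * x⁻¹ * h⁻¹ = (h * x * h⁻¹)⁻¹ by group]
        exact inv_mem (hx h hh) }
  have hX : X = ⊥ := by
    refine hc X (fun x hx => by simpa using hx 1 (one_mem _)) fun g hg => ?_
    rw [mem_normalizer_iff]
    intro x
    constructor
    · intro hx h hh
      rw [show h * (g * x * g⁻¹) * h⁻¹ = h * g * x * (h * g)⁻¹ by group]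
      exact hx _ (mul_mem hh hg)
    · intro hx h hh
      rw [show h * x * h⁻¹ = h * g⁻¹ * (g * x * g⁻¹) * (h * g⁻¹)⁻¹ by group]
      exact hx _ (mul_mem hh (inv_mem hg))
  exact (mem_bot (G := G)).mp (hX ▸ (show k ∈ X from hk))

/-- Elements of the first kernel centralising the common kernel. -/
abbrev Pair.U : Subgroup G := P.K ⊓ centralizer (P.N : Set G)

theorem Pair.D_le_normalizer_U : P.D ≤ normalizer ((P.U : Subgroup G) : Set G) := by
  refine le_normalizer_inf P.D_le_normalizer_K ?_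
  intro d hd
  rw [mem_normalizer_iff]
  intro x
  constructor
  · intro hx
    rw [mem_centralizer_iff] at hx ⊢
    intro y hy
    have h := hx (d⁻¹ * y * d) ((mem_normalizer_iff''.mp (P.D_le_normalizer_N hd) y).mp hy)
    calc y * (d * x * d⁻¹) = d * (d⁻¹ * y * d * x) * d⁻¹ := by group
      _ = d * (x * (d⁻¹ * y * d)) * d⁻¹ := by rw [h]
      _ = d * x * d⁻¹ * y := by group
  · intro hx
    rw [mem_centralizer_iff] at hx ⊢
    intro y hy
    have h := hx (d * y * d⁻¹) ((mem_normalizer_iff.mp (P.D_le_normalizer_N hd) y).mp hy)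
    calc y * x = d⁻¹ * (d * y * d⁻¹ * (d * x * d⁻¹)) * d := by group
      _ = d⁻¹ * (d * x * d⁻¹ * (d * y * d⁻¹)) * d := by rw [h]
      _ = x * y := by group

theorem Pair.U_inf_N (hne : P.K ≠ ⊥) (hc : P.CoreTriv) : P.U ⊓ P.N = ⊥ := by
  rw [eq_bot_iff]
  intro z hz
  refine mem_bot.mpr (P.eq_one_of_all_conj hc fun h hh => ?_)
  have hnH := P.H_le_normalizer_K hh
  have hsub : conjg h (P.U ⊓ P.N) ≤ P.K :=
    (conjg_mono h (inf_le_left.trans inf_le_left)).trans (conjg_eq_self hnH).le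
  have hK : P.K ≤ normalizer ((P.U ⊓ P.N : Subgroup G) : Set G) :=
    le_normalizer_inf (P.K_le_D.trans P.D_le_normalizer_U) (P.K_le_D.trans P.D_le_normalizer_N)
  have hcm : ∀ x ∈ conjg h (P.U ⊓ P.N), ∀ y ∈ conjg h (P.U ⊓ P.N), x * y = y * x := by
    rintro _ ⟨x, hx, rfl⟩ _ ⟨y, hy, rfl⟩
    rw [← map_mul, ← map_mul, (mem_centralizer_iff.mp hx.1.2 y hy.2).symm]
  have hmem : h * z * h⁻¹ ∈ conjg h (P.U ⊓ P.N) := ⟨z, hz, rfl⟩
  exact ⟨hsub hmem, P.symm_le_K_of_comm hne hsub (le_normalizer_conjg hK hnH) hcm hmem⟩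

theorem Pair.U_ne_bot (hne : P.K ≠ ⊥) (hc : P.CoreTriv) : P.U ≠ ⊥ := by
  obtain ⟨W, ⟨hWK, hWne, hWn⟩, hmin⟩ := exists_minimal_of_wellFoundedLT
    (fun W : Subgroup G => W ≤ P.K ∧ W ≠ ⊥ ∧ P.K ≤ normalizer (W : Set G))
    ⟨P.K, le_rfl, hne, le_normalizer⟩
  obtain ⟨h, hh, hnot⟩ : ∃ h ∈ P.H, ¬ conjg h W ≤ P.N := by
    by_contra hall
    push Not at hall
    refine hWne ((eq_bot_iff_forall _).mpr fun w hw => P.eq_one_of_all_conj hc fun h hh => ?_)
    exact hall h hh ⟨w, hw, rfl⟩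
  have hnH := P.H_le_normalizer_K hh
  set W' := conjg h W with hW'
  have hW'K : W' ≤ P.K := (conjg_mono h hWK).trans (conjg_eq_self hnH).le
  have hW'n : P.K ≤ normalizer (W' : Set G) := le_normalizer_conjg hWn hnH
  have hN : P.K ≤ normalizer ((P.N : Subgroup G) : Set G) := P.K_le_D.trans P.D_le_normalizer_N
  have hinf : W' ⊓ P.N = ⊥ := by
    by_contra hb
    have h1 : conjg h⁻¹ (W' ⊓ P.N) ≤ W := by
      refine (conjg_mono _ inf_le_left).trans ?_
      rw [hW', ← conjg_mul, inv_mul_cancel, conjg_one]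
    have hne2 : conjg h⁻¹ (W' ⊓ P.N) ≠ ⊥ := by
      intro e
      have := card_conjg h⁻¹ (W' ⊓ P.N)
      rw [e, card_bot] at this
      exact hb ((card_eq_one (H := W' ⊓ P.N)).mp this.symm)
    have h2 := hmin ⟨h1.trans hWK, hne2,
      le_normalizer_conjg (le_normalizer_inf hW'n hN) (P.H_le_normalizer_K (inv_mem hh))⟩ h1
    refine hnot ?_
    have h3 := conjg_mono h h2
    rw [← conjg_mul, mul_inv_cancel, conjg_one, ← hW'] at h3
    exact h3.trans inf_le_right
  intro hU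
  refine hWne ((eq_bot_iff_forall _).mpr fun w hw => ?_)
  have hmem : h * w * h⁻¹ ∈ P.U := by
    refine ⟨hW'K ⟨w, hw, rfl⟩, mem_centralizer_iff.mpr fun y hy => ?_⟩
    exact (commute_of_inf_eq_bot hinf (inf_le_left.trans hW'n) (hW'K.trans hN) _ ⟨w, hw, rfl⟩ y hy).symm
  rw [hU, mem_bot] at hmem
  simpa using hmem

end Cfsg.Lib.Recog.AltSub
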