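import Cfsg.Agent.Lib.Recog.AltSubconstituent.Conjugates

/-!
# The two kernels meet trivially
-/

set_option autoImplicit false
set_option linter.unusedSectionVars false

namespace Cfsg.Lib.Recog.AltSub

open Equiv Equiv.Perm Subgroup

universe u

variable {G : Type u} [Group G] {n : ℕ} (P : Pair G n)

/-- The simple subgroup of the first kernel. -/
abbrev Pair.T : Subgroup G := ⁅P.U, P.U⁆

theorem Pair.T_le_U : P.T ≤ P.U := commutator_le.mpr fun x hx y hy =>
  mul_mem (mul_mem (mul_mem hx hy) (inv_mem hx)) (inv_mem hy)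

theorem Pair.T_le_K : P.T ≤ P.K := P.T_le_U.trans inf_le_left

variable [Finite G]

theorem Pair.D_le_normalizer_T : P.D ≤ normalizer ((P.T : Subgroup G) : Set G) := fun d hd => by
  refine mem_normalizer_of_conjg_eq ?_
  rw [conjg, map_commutator, show P.U.map (MulAut.conj d).toMonoidHom = P.U from
    conjg_eq_self (P.D_le_normalizer_U hd)]

theorem Pair.symm_img_T (hne : P.K ≠ ⊥) (hc : P.CoreTriv) :
    P.symm.img P.T = alternatingGroup (Fin n) := by
  have hUD : P.U ≤ P.symm.D := inf_le_left.trans P.K_le_symm_D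
  have hA : alternatingGroup (Fin n) ≤ P.symm.img P.U := by
    refine (P.symm.le_K_or_alt_le hUD P.K_le_symm_D (P.symm.alt_le_img (P.symm_K_ne_bot hne))
      (P.K_le_D.trans P.D_le_normalizer_U)).resolve_left fun h => P.U_ne_bot hne hc ?_
    rw [← P.U_inf_N hne hc]
    exact (inf_eq_left.mpr (le_inf inf_le_left h)).symm
  have he : P.T.subgroupOf P.symm.D = ⁅P.U.subgroupOf P.symm.D, P.U.subgroupOf P.symm.D⁆ :=
    map_injective P.symm.D.subtype_injective (by
      rw [map_commutator, map_subgroupOf_eq_of_le hUD,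
        map_subgroupOf_eq_of_le (P.T_le_U.trans hUD)])
  have hT : P.symm.img P.T = ⁅P.symm.img P.U, P.symm.img P.U⁆ := by
    show (P.T.subgroupOf P.symm.D).map P.symm.α = _
    rw [he, map_commutator]
    rfl
  rw [hT]
  refine le_antisymm ?_ (by rw [← sq_eq_self_of_alt P.five]; exact commutator_mono hA hA)
  refine (commutator_mono le_top le_top).trans ?_
  rw [← commutator_def]
  exact alternatingGroup.commutator_perm_le

theorem Pair.T_inf_symm_K (hne : P.K ≠ ⊥) (hc : P.CoreTriv) : P.T ⊓ P.symm.K = ⊥ := by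
  rw [eq_bot_iff, ← P.U_inf_N hne hc]
  exact fun x hx => ⟨P.T_le_U hx.1, P.T_le_K hx.1, hx.2⟩

theorem Pair.card_T (hne : P.K ≠ ⊥) (hc : P.CoreTriv) : 2 * Nat.card P.T = n.factorial := by
  rw [P.symm.card_eq (P.T_le_K.trans P.K_le_symm_D), P.T_inf_symm_K hne hc, card_bot, mul_one,
    P.symm_img_T hne hc]
  exact card_alt (by have := P.five; omega)

theorem Pair.T_normal_cases (hne : P.K ≠ ⊥) (hc : P.CoreTriv) {X : Subgroup G} (hX : X ≤ P.T)
    (hN : P.T ≤ normalizer (X : Set G)) : X = ⊥ ∨ X = P.T := by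
  have hTD := P.T_le_K.trans P.K_le_symm_D
  have hTA := P.symm_img_T hne hc
  rcases P.symm.le_K_or_alt_le (hX.trans hTD) hTD hTA.ge hN with h | h
  · left
    rw [eq_bot_iff, ← P.T_inf_symm_K hne hc]
    exact le_inf hX h
  · right
    refine Subgroup.eq_of_le_of_card_ge hX ?_
    rw [P.symm.card_eq hTD, P.T_inf_symm_K hne hc, card_bot, mul_one,
      P.symm.card_eq (hX.trans hTD), hTA]
    calc Nat.card (alternatingGroup (Fin n)) ≤ Nat.card (P.symm.img X) := Subgroup.card_le_of_le h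
      _ ≤ _ := Nat.le_mul_of_pos_right _ Nat.card_pos

theorem Pair.le_symm_K_of_commute_T (hne : P.K ≠ ⊥) (hc : P.CoreTriv) {X : Subgroup G}
    (hX : X ≤ P.K) (h : ∀ x ∈ X, ∀ t ∈ P.T, x * t = t * x) : X ≤ P.symm.K := by
  rw [← P.symm.img_eq_bot (hX.trans P.K_le_symm_D), eq_bot_iff, ← centralizer_alt P.five,
    ← P.symm_img_T hne hc]
  rintro _ ⟨x, hx, rfl⟩
  refine mem_centralizer_iff.mpr ?_
  rintro _ ⟨t, ht, rfl⟩
  rw [← map_mul, ← map_mul, show t * x = x * t from Subtype.ext (h x hx t ht).symm]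

theorem Pair.T_inf_centralizer (hne : P.K ≠ ⊥) (hc : P.CoreTriv) :
    P.T ⊓ centralizer (P.T : Set G) = ⊥ := by
  rw [eq_bot_iff, ← P.T_inf_symm_K hne hc]
  refine le_inf inf_le_left (P.le_symm_K_of_commute_T hne hc (inf_le_left.trans P.T_le_K) ?_)
  intro x hx t ht
  exact (mem_centralizer_iff.mp hx.2 t ht).symm

theorem Pair.conjg_T_le (hne : P.K ≠ ⊥) (hc : P.CoreTriv) {g : G} (hg : g ∈ P.H)
    (hmove : conjg g P.T ≠ P.T) :
    conjg g P.T ≤ P.N ∧ ∀ x ∈ conjg g P.T, ∀ t ∈ P.T, x * t = t * x := by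
  have hnH := P.H_le_normalizer_K hg
  have hK' : conjg g P.T ≤ P.K := (conjg_mono g P.T_le_K).trans (conjg_eq_self hnH).le
  have hKT : P.K ≤ normalizer ((P.T : Subgroup G) : Set G) := P.K_le_D.trans P.D_le_normalizer_T
  have hKT' : P.K ≤ normalizer ((conjg g P.T : Subgroup G) : Set G) := le_normalizer_conjg hKT hnH
  have hinf : conjg g P.T ⊓ P.T = ⊥ := by
    refine (P.T_normal_cases hne hc inf_le_right (le_normalizer_inf (P.T_le_K.trans hKT')
      (P.T_le_K.trans hKT))).resolve_right fun h => hmove ?_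
    exact (Subgroup.eq_of_le_of_card_ge (h.symm.trans_le inf_le_left)
      (card_conjg g P.T).le).symm
  have hcomm := commute_of_inf_eq_bot hinf (P.T_le_K.trans hKT') (hK'.trans hKT)
  exact ⟨le_inf hK' (P.le_symm_K_of_commute_T hne hc hK' hcomm), hcomm⟩

theorem Pair.N_eq_bot_of_fixed (hne : P.K ≠ ⊥) (hc : P.CoreTriv)
    (hfix : ∀ g ∈ P.H, conjg g P.T = P.T) : P.N = ⊥ := by
  have hC : P.H ≤ normalizer ((P.K ⊓ centralizer (P.T : Set G) : Subgroup G) : Set G) := by
    refine le_normalizer_inf P.H_le_normalizer_K fun g hg => ?_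
    have hT := mem_normalizer_of_conjg_eq (hfix g hg)
    rw [mem_normalizer_iff]
    intro x
    simp only [mem_centralizer_iff]
    constructor
    · intro hx t ht
      have h := hx (g⁻¹ * t * g) ((mem_normalizer_iff''.mp hT t).mp ht)
      calc t * (g * x * g⁻¹) = g * (g⁻¹ * t * g * x) * g⁻¹ := by group
        _ = g * (x * (g⁻¹ * t * g)) * g⁻¹ := by rw [h]
        _ = g * x * g⁻¹ * t := by group
    · intro hx t ht
      have h := hx (g * t * g⁻¹) ((mem_normalizer_iff.mp hT t).mp ht)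
      calc t * x = g⁻¹ * (g * t * g⁻¹ * (g * x * g⁻¹)) * g := by group
        _ = g⁻¹ * (g * x * g⁻¹ * (g * t * g⁻¹)) * g := by rw [h]
        _ = x * t := by group
  have hle : P.K ⊓ centralizer (P.T : Set G) ≤ P.N := le_inf inf_le_left
    (P.le_symm_K_of_commute_T hne hc inf_le_left fun x hx t ht =>
      (mem_centralizer_iff.mp hx.2 t ht).symm)
  rw [eq_bot_iff, ← hc _ hle hC]
  refine le_inf inf_le_left fun z hz => mem_centralizer_iff.mpr fun t ht => ?_
  exact (mem_centralizer_iff.mp (P.T_le_U ht).2 z hz).symm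

theorem Pair.mem_D_of_fixed {g₀ : G} (hg₀ : g₀ ∈ P.H) (hmove : conjg g₀ P.T ≠ P.T) {g : G}
    (hg : g ∈ P.H) (hfix : conjg g P.T = P.T) : g ∈ P.D := by
  refine ⟨hg, (P.memφ ⟨g, hg⟩).mpr ?_⟩
  by_contra h0
  have h00 : P.φ ⟨g₀, hg₀⟩ 0 ≠ 0 := fun h => hmove
    (conjg_eq_self (P.D_le_normalizer_T ⟨hg₀, (P.memφ ⟨g₀, hg₀⟩).mpr h⟩))
  obtain ⟨y, hy⟩ := Fin.exists_succ_eq_of_ne_zero h0
  obtain ⟨x, hx⟩ := Fin.exists_succ_eq_of_ne_zero h00
  obtain ⟨σ, hσ, hσy⟩ := alt_transitive (n := n) (by have := P.five; omega) y x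
  obtain ⟨δ, rfl⟩ := P.alt_le_range_α hσ
  set s : P.H := ⟨δ, δ.2.1⟩ * ⟨g, hg⟩ with hs
  have hs0 : P.φ s 0 = x.succ := by
    rw [hs, map_mul, Perm.mul_apply, ← hy, P.φ_succ, hσy]
  have hd : ((s⁻¹ * ⟨g₀, hg₀⟩ : P.H) : G) ∈ P.D := by
    refine ⟨SetLike.coe_mem _, (P.memφ _).mpr ?_⟩
    rw [map_mul, Perm.mul_apply, ← hx, ← hs0, ← Perm.mul_apply, ← map_mul, inv_mul_cancel, map_one]
    rfl
  refine hmove ?_
  have e : g₀ = (δ : G) * g * ((s⁻¹ * ⟨g₀, hg₀⟩ : P.H) : G) := by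
    simp [hs, mul_assoc]
  rw [e, conjg_mul, conjg_eq_self (P.D_le_normalizer_T hd), conjg_mul, hfix,
    conjg_eq_self (P.D_le_normalizer_T δ.2)]

theorem Pair.exists_conjugates (hne : P.K ≠ ⊥) (hc : P.CoreTriv) {g₀ : G} (hg₀ : g₀ ∈ P.H)
    (hmove : conjg g₀ P.T ≠ P.T) :
    ∃ r : Fin (n + 1) → P.H, (∀ x, P.φ (r x) 0 = x) ∧
      ∀ x y, x ≠ y → conjg (r x : G) P.T ≠ conjg (r y : G) P.T := by
  choose r hr using P.exists_point
  refine ⟨r, hr, fun x y hxy he => hxy ?_⟩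
  have h : conjg (((r y)⁻¹ * r x : P.H) : G) P.T = P.T := by
    rw [Subgroup.coe_mul, conjg_mul, he, ← conjg_mul, Subgroup.coe_inv, inv_mul_cancel, conjg_one]
  have hD := P.mem_D_of_fixed hg₀ hmove (SetLike.coe_mem _) h
  have h0 := (P.memφ ((r y)⁻¹ * r x)).mp hD.2
  rw [map_mul, Perm.mul_apply, hr x, map_inv, Perm.inv_eq_iff_eq] at h0
  rw [h0, hr y]

theorem Pair.mem_K_of_centralize (hne : P.K ≠ ⊥) (hc : P.CoreTriv) {g₀ : G} (hg₀ : g₀ ∈ P.H)
    (hmove : conjg g₀ P.T ≠ P.T) {t : G} (ht : t ∈ P.D) (hcen : t ∈ centralizer (P.N : Set G)) :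
    t ∈ P.K := by
  obtain ⟨r, hr, hinj⟩ := P.exists_conjugates hne hc hg₀ hmove
  refine P.mem_K.mpr ⟨ht.1, Equiv.ext fun x => ?_⟩
  by_cases hx : x = 0
  · subst hx; exact (P.memφ ⟨t, ht.1⟩).mp ht.2
  have hrx : conjg (r x : G) P.T ≠ P.T := by
    intro h
    apply hinj x 0 hx
    rw [h, conjg_eq_self (P.D_le_normalizer_T ⟨(r 0).2, (P.memφ (r 0)).mpr (hr 0)⟩)]
  obtain ⟨hN, -⟩ := P.conjg_T_le hne hc (r x).2 hrx
  have hfix : conjg t (conjg (r x : G) P.T) = conjg (r x : G) P.T := by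
    refine conjg_eq_self (mem_normalizer_iff.mpr fun z => ?_)
    constructor
    · intro hz
      rw [← mem_centralizer_iff.mp hcen z (hN hz)]
      simpa using hz
    · intro hz
      have h := mem_centralizer_iff.mp hcen _ (hN hz)
      have e : t * z * t⁻¹ = z := by
        apply mul_left_cancel (a := t)
        rw [← h]; group
      rwa [e] at hz
  set s : P.H := (r x)⁻¹ * ⟨t, ht.1⟩ * r x with hs
  have h : conjg (s : G) P.T = P.T := by
    rw [hs, Subgroup.coe_mul, Subgroup.coe_mul, conjg_mul, conjg_mul, hfix, ← conjg_mul,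
      Subgroup.coe_inv, inv_mul_cancel, conjg_one]
  have h0 := (P.memφ s).mp (P.mem_D_of_fixed hg₀ hmove s.2 h).2
  rw [hs, map_mul, map_mul, Perm.mul_apply, Perm.mul_apply, hr x, map_inv, Perm.inv_eq_iff_eq,
    hr x] at h0
  exact h0

theorem Pair.card_normal_ge (hne : P.K ≠ ⊥) (hc : P.CoreTriv) {g₀ : G} (hg₀ : g₀ ∈ P.H)
    (hmove : conjg g₀ P.T ≠ P.T) {W : Subgroup G} (hW : W ≤ P.H) (hW1 : W ≠ ⊥)
    (hWn : P.H ≤ normalizer (W : Set G)) :
    Nat.card P.T ^ (n + 1) ≤ Nat.card W := by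
  classical
  obtain ⟨r, hr, hinj⟩ := P.exists_conjugates hne hc hg₀ hmove
  have hKH : P.K ≤ P.H := P.K_le_D.trans inf_le_left
  have hWK : W ⊓ P.K ≠ ⊥ := by
    intro hb
    have hcomm := commute_of_inf_eq_bot hb (hKH.trans hWn) (hW.trans P.H_le_normalizer_K)
    apply hW1
    rw [← hb]
    refine (inf_eq_left.mpr fun w hw => ?_).symm
    have hfix : conjg w P.T = P.T := conjg_eq_self (mem_normalizer_iff.mpr fun z => by
      constructor
      · intro hz
        rw [hcomm w hw z (P.T_le_K hz)]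
        simpa using hz
      · intro hz
        have h := hcomm w hw _ (P.T_le_K hz)
        have e : w * z * w⁻¹ = z := by
          apply mul_left_cancel (a := w)
          rw [h]; group
        rwa [e] at hz)
    exact P.mem_K_of_centralize hne hc hg₀ hmove (P.mem_D_of_fixed hg₀ hmove (hW hw) hfix)
      (mem_centralizer_iff.mpr fun z hz => (hcomm w hw z hz.1).symm)
  have hTW : P.T ≤ W := by
    have hn : P.T ≤ normalizer ((W ⊓ P.K : Subgroup G) : Set G) :=
      le_normalizer_inf ((P.T_le_K.trans hKH).trans hWn) (P.T_le_K.trans le_normalizer)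
    have hKT : P.K ≤ normalizer ((P.T : Subgroup G) : Set G) := P.K_le_D.trans P.D_le_normalizer_T
    rcases P.T_normal_cases hne hc (X := P.T ⊓ (W ⊓ P.K)) inf_le_left
      (le_normalizer_inf le_normalizer hn) with h | h
    · exfalso
      rw [inf_comm] at h
      have hcomm := commute_of_inf_eq_bot h hn (inf_le_right.trans hKT)
      exact hWK (hc _ (le_inf inf_le_right (P.le_symm_K_of_commute_T hne hc inf_le_right hcomm))
        (le_normalizer_inf hWn P.H_le_normalizer_K))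
    · exact (inf_eq_left.mp h).trans inf_le_left
  let Tx : Fin (n + 1) → Subgroup G := fun x => conjg (r x : G) P.T
  have hTx : ∀ x, Tx x ≤ W := fun x =>
    (conjg_mono _ hTW).trans (conjg_eq_self (hWn (r x).2)).le
  have hcomm : Pairwise fun i j => ∀ a b : G, a ∈ Tx i → b ∈ Tx j → Commute a b := by
    intro i j hij a b ha hb
    set s : P.H := (r i)⁻¹ * r j with hs
    have hrs : conjg (r i : G) (conjg (s : G) P.T) = Tx j := by
      rw [← conjg_mul, ← Subgroup.coe_mul, hs, mul_inv_cancel_left]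
    have hne' : conjg (s : G) P.T ≠ P.T := fun h => hinj i j hij (by rw [h] at hrs; exact hrs)
    obtain ⟨-, hco⟩ := P.conjg_T_le hne hc s.2 hne'
    rw [← hrs] at hb
    obtain ⟨a', ha', rfl⟩ := ha
    obtain ⟨b', hb', rfl⟩ := hb
    show _ * _ = _ * _
    rw [← map_mul, ← map_mul, hco b' hb' a' ha']
  have hind : iSupIndep Tx := by
    intro i
    rw [disjoint_iff, eq_bot_iff]
    have hle : (⨆ (j) (_ : j ≠ i), Tx j) ≤ centralizer (Tx i : Set G) :=
      iSup₂_le fun j hj b hb => mem_centralizer_iff.mpr fun a ha => hcomm hj.symm a b ha hb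
    rintro _ ⟨⟨z, hz, rfl⟩, hz2⟩
    have h2 : z ∈ P.T ⊓ centralizer (P.T : Set G) := by
      refine ⟨hz, mem_centralizer_iff.mpr fun t ht => ?_⟩
      have h := mem_centralizer_iff.mp (hle hz2) _ ⟨t, ht, rfl⟩
      apply (MulAut.conj (r i : G)).injective
      rw [map_mul, map_mul]
      exact h
    rw [P.T_inf_centralizer hne hc, mem_bot] at h2
    rw [h2, map_one]
    exact one_mem _
  have hinjc := Subgroup.injective_noncommPiCoprod_of_iSupIndep (hcomm := hcomm) hind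
  have hrange : ∀ p, Subgroup.noncommPiCoprod hcomm p ∈ W := by
    intro p
    have h : (Subgroup.noncommPiCoprod hcomm).range ≤ W := by
      rw [Subgroup.noncommPiCoprod_range]; exact iSup_le hTx
    exact h ⟨p, rfl⟩
  calc Nat.card P.T ^ (n + 1) = Nat.card (∀ x, Tx x) := by
        rw [Nat.card_pi, Finset.prod_congr rfl fun x _ => card_conjg (r x : G) P.T,
          Finset.prod_const, Finset.card_univ, Fintype.card_fin]
    _ ≤ Nat.card W := Nat.card_le_card_of_injective (fun p => ⟨_, hrange p⟩)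
        fun p q h => hinjc (congrArg Subtype.val h)

theorem Pair.card_N_le (hc : P.CoreTriv) : Nat.card P.N ≤ n.factorial ^ n := by
  classical
  choose r hr using P.exists_point
  have hmem : ∀ (j : Fin n) (k : P.N), ((r j.succ : G))⁻¹ * k * r j.succ ∈ P.symm.D := fun j k => by
    refine P.K_le_symm_D ?_
    exact (mem_normalizer_iff''.mp (P.H_le_normalizer_K (r j.succ).2) (k : G)).mp k.2.1
  let f : P.N → Fin n → Perm (Fin n) := fun k j => P.symm.α ⟨_, hmem j k⟩
  have hf : Function.Injective f := by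
    intro k k' h
    suffices hk : ∀ g ∈ P.H, g * ((k : G) * (k' : G)⁻¹) * g⁻¹ ∈ P.N by
      exact Subtype.ext (mul_inv_eq_one.mp (P.eq_one_of_all_conj hc hk))
    intro g hg
    set x := P.φ ⟨g, hg⟩⁻¹ 0 with hx
    have hd : ((⟨g, hg⟩ * r x : P.H) : G) ∈ P.D :=
      ⟨SetLike.coe_mem _, (P.memφ _).mpr (by
        rw [map_mul, Perm.mul_apply, hr, hx, map_inv]; simp)⟩
    have hkk : (k : G) * (k' : G)⁻¹ ∈ P.N := mul_mem k.2 (inv_mem k'.2)
    have hin : (r x : G)⁻¹ * ((k : G) * (k' : G)⁻¹) * r x ∈ P.N := by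
      by_cases hx0 : x = 0
      · have hr0 : (r x : G) ∈ P.D := ⟨(r x).2, (P.memφ (r x)).mpr (by rw [hr, hx0])⟩
        exact (mem_normalizer_iff''.mp (P.D_le_normalizer_N hr0) _).mp hkk
      obtain ⟨j, hj⟩ := Fin.exists_succ_eq_of_ne_zero hx0
      rw [← hj]
      refine ⟨(mem_normalizer_iff''.mp (P.H_le_normalizer_K (r j.succ).2) _).mp hkk.1, ?_⟩
      have hmul : (r j.succ : G)⁻¹ * ((k : G) * (k' : G)⁻¹) * r j.succ =
          ((⟨_, hmem j k⟩ * ⟨_, hmem j k'⟩⁻¹ : P.symm.D) : G) := by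
        simp [mul_assoc]
      rw [hmul]
      refine P.symm.α_eq_one.mp ?_
      rw [map_mul, map_inv, mul_inv_eq_one]
      exact congrFun h j
    rw [show g * ((k : G) * (k' : G)⁻¹) * g⁻¹ = ((⟨g, hg⟩ * r x : P.H) : G) *
      ((r x : G)⁻¹ * ((k : G) * (k' : G)⁻¹) * r x) * ((⟨g, hg⟩ * r x : P.H) : G)⁻¹ by
        simp [mul_assoc]]
    exact (mem_normalizer_iff.mp (P.D_le_normalizer_N hd) _).mp hin
  refine (Nat.card_le_card_of_injective f hf).trans ?_
  rw [Nat.card_fun, Nat.card_perm, Nat.card_fin]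

end Cfsg.Lib.Recog.AltSub
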