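import Cfsg.Agent.Lib.Recog.AltSubconstituent.PermFacts
import Cfsg.Agent.Lib.Perm.ThompsonWielandt

/-!
# Two subgroups acting as alternating groups on the cosets of their intersection
-/

set_option autoImplicit false

namespace Cfsg.Lib.Recog.AltSub

open Equiv Equiv.Perm Subgroup

universe u

/-- The configuration. -/
structure Pair (G : Type u) [Group G] (n : ℕ) where
  /-- the first subgroup -/
  H : Subgroup G
  /-- the second subgroup -/
  L : Subgroup G
  /-- the first action -/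
  φ : H →* Perm (Fin (n + 1))
  /-- the second action -/
  ψ : L →* Perm (Fin (n + 1))
  five : 5 ≤ n
  altφ : alternatingGroup (Fin (n + 1)) ≤ φ.range
  altψ : alternatingGroup (Fin (n + 1)) ≤ ψ.range
  memφ : ∀ h : H, (h : G) ∈ L ↔ φ h 0 = 0
  memψ : ∀ l : L, (l : G) ∈ H ↔ ψ l 0 = 0
  selfH : Cfsg.Lib.Perm.TW.SelfLocal H
  selfL : Cfsg.Lib.Perm.TW.SelfLocal L
  iso : Nonempty (H ≃* L)

variable {G : Type u} [Group G] {n : ℕ}

/-- The two sides exchanged. -/
def Pair.symm (P : Pair G n) : Pair G n where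
  H := P.L
  L := P.H
  φ := P.ψ
  ψ := P.φ
  five := P.five
  altφ := P.altψ
  altψ := P.altφ
  memφ := P.memψ
  memψ := P.memφ
  selfH := P.selfL
  selfL := P.selfH
  iso := P.iso.map MulEquiv.symm

variable (P : Pair G n)

theorem Pair.H_ne_L : P.H ≠ P.L := by
  intro he
  obtain ⟨σ, hσ, hσx⟩ := alt_transitive (n := n + 1) (by have := P.five; omega) 0 (Fin.last n)
  obtain ⟨h, rfl⟩ := P.altφ hσ
  have h0 := (P.memφ h).mp (he ▸ h.2)
  rw [hσx] at h0
  have := congrArg Fin.val h0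
  simp at this
  have := P.five
  omega

theorem Pair.loc [Finite G] (X : Subgroup G) (hX : X ≤ P.H ⊓ P.L) (h1 : P.H ≤ normalizer (X : Set G))
    (h2 : P.L ≤ normalizer (X : Set G)) : X = ⊥ :=
  Cfsg.Lib.Perm.TW.eq_bot_of_both P.selfH P.selfL P.H_ne_L (hX.trans inf_le_left) h1
    (hX.trans inf_le_right) h2

/-- The common part. -/
abbrev Pair.D : Subgroup G := P.H ⊓ P.L

/-- The kernel of the first action. -/
def Pair.K : Subgroup G := P.φ.ker.map P.H.subtype

theorem Pair.mem_K {x : G} : x ∈ P.K ↔ ∃ h : x ∈ P.H, P.φ ⟨x, h⟩ = 1 := by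
  constructor
  · rintro ⟨⟨y, hy⟩, hk, rfl⟩; exact ⟨hy, hk⟩
  · rintro ⟨h, hk⟩; exact ⟨⟨x, h⟩, hk, rfl⟩

theorem Pair.K_le_D : P.K ≤ P.D := by
  intro x hx
  obtain ⟨h, hk⟩ := P.mem_K.mp hx
  exact ⟨h, (P.memφ ⟨x, h⟩).mpr (by rw [hk]; rfl)⟩

theorem Pair.H_le_normalizer_K : P.H ≤ normalizer (P.K : Set G) :=
  Cfsg.Lib.Perm.TW.le_normalizer_map_subtype (MonoidHom.normal_ker _)

theorem Pair.D_le_normalizer_K : P.D ≤ normalizer (P.K : Set G) :=
  inf_le_left.trans P.H_le_normalizer_K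

/-- The action of the common part on the other points. -/
def Pair.α : P.D →* Perm (Fin n) :=
  (restr n).comp ((P.φ.comp (Subgroup.inclusion inf_le_left)).codRestrict _ fun x =>
    (P.memφ ⟨x, x.2.1⟩).mp x.2.2)

theorem Pair.α_eq_one {x : P.D} : P.α x = 1 ↔ (x : G) ∈ P.K := by
  rw [Pair.α, MonoidHom.comp_apply, map_eq_one_iff _ restr_injective, P.mem_K]
  exact ⟨fun h => ⟨x.2.1, congrArg Subtype.val h⟩, fun ⟨_, h⟩ => Subtype.ext h⟩

theorem Pair.φ_succ (x : P.D) (j : Fin n) :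
    P.φ ⟨x, x.2.1⟩ j.succ = (P.α x j).succ :=
  restr_apply ((P.φ.comp (Subgroup.inclusion inf_le_left)).codRestrict _ (fun y =>
    (P.memφ ⟨y, y.2.1⟩).mp y.2.2) x) j

theorem Pair.sign_α (x : P.D) : sign (P.α x) = sign (P.φ ⟨x, x.2.1⟩) := sign_restr _

theorem Pair.alt_le_range_α : alternatingGroup (Fin n) ≤ P.α.range := by
  intro τ hτ
  have h0 : decomposeFin.symm ((0 : Fin (n + 1)), τ) ∈ alternatingGroup (Fin (n + 1)) := by
    rw [Equiv.Perm.mem_alternatingGroup] at hτ ⊢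
    simp [hτ]
  obtain ⟨h, hh⟩ := P.altφ h0
  have hL : (h : G) ∈ P.L := (P.memφ h).mpr (by rw [hh, decomposeFin_symm_apply_zero])
  refine ⟨⟨h, h.2, hL⟩, Equiv.ext fun j => Fin.succ_injective _ ?_⟩
  rw [← P.φ_succ]
  show P.φ h j.succ = _
  rw [hh, decomposeFin_symm_apply_succ, swap_self, Equiv.refl_apply]

theorem Pair.exists_point (x : Fin (n + 1)) : ∃ h : P.H, P.φ h 0 = x := by
  obtain ⟨σ, hσ, hσx⟩ := alt_transitive (n := n + 1) (by have := P.five; omega) 0 x
  obtain ⟨h, rfl⟩ := P.altφ hσ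
  exact ⟨h, hσx⟩

/-- The image of a subgroup of the common part. -/
def Pair.img (X : Subgroup G) : Subgroup (Perm (Fin n)) := (X.subgroupOf P.D).map P.α

theorem Pair.img_top : P.img P.D = P.α.range := by
  rw [Pair.img, subgroupOf_self, MonoidHom.range_eq_map]

theorem Pair.img_eq_bot {X : Subgroup G} (hX : X ≤ P.D) : P.img X = ⊥ ↔ X ≤ P.K := by
  rw [Pair.img, Subgroup.map_eq_bot_iff]
  exact ⟨fun h x hx => (P.α_eq_one (x := ⟨x, hX hx⟩)).mp
      (h (show (⟨x, hX hx⟩ : P.D) ∈ X.subgroupOf P.D from hx)),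
    fun h x hx => P.α_eq_one.mpr (h hx)⟩

/-- A subgroup normalised by a subgroup covering the alternating group. -/
theorem Pair.le_K_or_alt_le {X Y : Subgroup G} (hX : X ≤ P.D) (hY : Y ≤ P.D)
    (hA : alternatingGroup (Fin n) ≤ P.img Y) (hN : Y ≤ normalizer (X : Set G)) :
    X ≤ P.K ∨ alternatingGroup (Fin n) ≤ P.img X := by
  rw [← P.img_eq_bot hX]
  refine dichotomy P.five (hA.trans ?_)
  refine le_trans (map_mono fun y hy => ?_) (le_normalizer_map P.α)
  rw [mem_normalizer_iff]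
  intro z
  exact mem_normalizer_iff.mp (hN hy) z

theorem Pair.le_K_of_comm {X Y : Subgroup G} (hX : X ≤ P.D) (hY : Y ≤ P.D)
    (hA : alternatingGroup (Fin n) ≤ P.img Y) (hN : Y ≤ normalizer (X : Set G))
    (hc : ∀ x ∈ X, ∀ y ∈ X, x * y = y * x) : X ≤ P.K := by
  rcases P.le_K_or_alt_le hX hY hA hN with h | h
  · exact h
  · exfalso
    refine alt_ne_bot P.five ?_
    rw [← sq_eq_self_of_alt P.five, commutator_eq_bot_iff_le_centralizer]
    intro a ha
    refine mem_centralizer_iff.mpr fun b hb => ?_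
    obtain ⟨x, hx, rfl⟩ := h ha
    obtain ⟨y, hy, rfl⟩ := h hb
    rw [← map_mul, ← map_mul, show y * x = x * y from Subtype.ext (hc y hy x hx)]

variable [Finite G]

theorem Pair.card_img_le (X : Subgroup G) : Nat.card (P.img X) ≤ n.factorial := by
  refine (Subgroup.card_le_card_group _).trans ?_
  rw [Nat.card_perm, Nat.card_fin]

theorem Pair.card_eq {X : Subgroup G} (hX : X ≤ P.D) :
    Nat.card X = Nat.card (P.img X) * Nat.card (X ⊓ P.K : Subgroup G) := by
  set f := P.α.comp (Subgroup.inclusion hX) with hf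
  have h := Subgroup.card_eq_card_quotient_mul_card_subgroup f.ker
  rw [Nat.card_congr (QuotientGroup.quotientKerEquivRange f).toEquiv] at h
  rw [h]
  congr 1
  · rw [Pair.img, hf]
    congr 2
    ext σ
    constructor
    · rintro ⟨x, rfl⟩; exact ⟨⟨x, hX x.2⟩, x.2, rfl⟩
    · rintro ⟨⟨y, hy⟩, hyX, rfl⟩; exact ⟨⟨y, hyX⟩, rfl⟩
  · exact Nat.card_congr
      { toFun := fun x => ⟨x.1.1, x.1.2, P.α_eq_one.mp x.2⟩
        invFun := fun y => ⟨⟨y.1, y.2.1⟩, (P.α_eq_one (x := ⟨y.1, hX y.2.1⟩)).mpr y.2.2⟩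
        left_inv := fun _ => rfl
        right_inv := fun _ => rfl }

/-- Neither kernel lies in the other. -/
theorem Pair.not_le (hne : P.K ≠ ⊥) : ¬ P.symm.K ≤ P.K := by
  intro hle
  have hD : P.symm.D = P.D := inf_comm _ _
  have hKD : P.K ≤ P.symm.D := hD ▸ P.K_le_D
  rcases P.symm.le_K_or_alt_le hKD le_rfl (P.symm.img_top ▸ P.symm.alt_le_range_α)
    (hD ▸ P.D_le_normalizer_K) with h | h
  · refine hne (P.loc _ P.K_le_D P.H_le_normalizer_K ?_)
    rw [show P.K = P.symm.K from le_antisymm h hle]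
    exact P.symm.H_le_normalizer_K
  · have h1 : Nat.card P.D = Nat.card (P.img P.D) * Nat.card P.K := by
      rw [P.card_eq le_rfl, inf_eq_right.mpr P.K_le_D]
    have h2 : Nat.card P.D = Nat.card (P.symm.img P.symm.D) * Nat.card P.symm.K := by
      rw [← hD, P.symm.card_eq le_rfl, inf_eq_right.mpr P.symm.K_le_D]
    have h3 : Nat.card P.K = Nat.card (P.symm.img P.K) * Nat.card P.symm.K := by
      rw [P.symm.card_eq hKD, inf_eq_right.mpr hle]
    rw [h1, h3, ← mul_assoc] at h2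
    have hpos : 0 < Nat.card P.symm.K := Nat.card_pos
    have h4 := Nat.eq_of_mul_eq_mul_right hpos h2
    have a1 : Nat.card (alternatingGroup (Fin n)) ≤ Nat.card (P.img P.D) :=
      Subgroup.card_le_of_le (P.img_top ▸ P.alt_le_range_α)
    have a2 : Nat.card (alternatingGroup (Fin n)) ≤ Nat.card (P.symm.img P.K) :=
      Subgroup.card_le_of_le h
    have a3 := P.symm.card_img_le P.symm.D
    have a4 := card_alt (n := n) (by have := P.five; omega)
    have a5 : 5 ≤ n.factorial := P.five.trans (Nat.self_le_factorial n)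
    have a6 := Nat.mul_le_mul a1 a2
    rw [h4] at a6
    nlinarith

/-- The second kernel covers the alternating group of the first action. -/
theorem Pair.alt_le_img (hne : P.K ≠ ⊥) : alternatingGroup (Fin n) ≤ P.img P.symm.K :=
  (P.le_K_or_alt_le (P.symm.K_le_D.trans_eq (inf_comm _ _)) le_rfl
    (P.img_top ▸ P.alt_le_range_α)
    ((inf_comm P.H P.L).trans_le P.symm.D_le_normalizer_K)).resolve_left (P.not_le hne)

theorem Pair.symm_K_ne_bot (hne : P.K ≠ ⊥) : P.symm.K ≠ ⊥ := fun h =>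
  P.not_le hne (h ▸ bot_le)

end Cfsg.Lib.Recog.AltSub
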