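import Cfsg.Agent.Lib.Recog.AltSubconstituent.PermFacts

/-!
# The paired suborbit of an alternating subconstituent
-/

set_option autoImplicit false
set_option linter.unusedSectionVars false

namespace Cfsg.Lib.Recog.AltSub

open Equiv Equiv.Perm Subgroup MulAction
open scoped Pointwise

universe u v

variable {G : Type u} [Group G] [Finite G] {X : Type v} [MulAction G X] [FaithfulSMul G X] [Finite X]

/-- In a primitive group the only set containing `a` and closed under the paired neighbours is everything. -/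
theorem closed_eq_univ (hprim : IsPreprimitive G X) {a b : X} (hab : a ≠ b) (S : Set X) (ha : a ∈ S)
    (hS : ∀ g : G, g • b ∈ S → ∀ ω ∈ orbit (stabilizer G b) a, g • ω ∈ S) : S = Set.univ := by
  haveI := hprim.toIsPretransitive
  haveI : Nontrivial X := ⟨a, b, hab⟩
  set O : Set X := orbit (stabilizer G b) a
  set Cl : Set (Set X) := {U | a ∈ U ∧ ∀ g : G, g • b ∈ U → ∀ ω ∈ O, g • ω ∈ U}
  set T : Set X := ⋂₀ Cl
  have haT : a ∈ T := Set.mem_sInter.mpr fun U hU => hU.1
  have hfix : ∀ g : G, g • a ∈ T → g ∈ stabilizer G T := by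
    intro g hg
    have hsub : g • T ⊆ T := by
      rintro _ ⟨t, ht, rfl⟩
      refine Set.mem_sInter.mpr fun U hU => ?_
      have hU' : g⁻¹ • U ∈ Cl := by
        refine ⟨Set.mem_inv_smul_set_iff.mpr (Set.mem_sInter.mp hg U hU), fun h hh ω hω => ?_⟩
        rw [Set.mem_inv_smul_set_iff, ← mul_smul] at hh ⊢
        exact hU.2 _ hh ω hω
      exact Set.mem_inv_smul_set_iff.mp (Set.mem_sInter.mp ht _ hU')
    exact Set.eq_of_subset_of_ncard_le hsub (by rw [Set.ncard_smul_set]) (Set.toFinite _)
  obtain ⟨g₁, hg₁⟩ := exists_smul_eq G b a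
  have hmem : g₁ • a ∈ T :=
    Set.mem_sInter.mpr fun U hU => hU.2 g₁ (hg₁ ▸ hU.1) a (mem_orbit_self a)
  have hle : stabilizer G a ≤ stabilizer G T := fun g hg => hfix g (by rw [hg]; exact haT)
  have hnot : g₁ ∉ stabilizer G a := fun h => by
    refine hab (MulAction.injective g₁ ?_)
    show g₁ • a = g₁ • b
    rw [show g₁ • a = a from h, hg₁]
  have htop : stabilizer G T = ⊤ :=
    ((isCoatom_stabilizer_iff_preprimitive (G := G) a).mpr hprim).2 _
      (lt_of_le_of_ne hle fun e => hnot (e ▸ hfix g₁ hmem))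
  refine Set.eq_univ_of_forall fun x => ?_
  obtain ⟨g, rfl⟩ := exists_smul_eq G a x
  have hg : g • T = T := (htop ▸ Subgroup.mem_top g : g ∈ stabilizer G T)
  refine Set.mem_sInter.mp (?_ : g • a ∈ T) S ⟨ha, hS⟩
  rw [← hg]
  exact Set.smul_mem_smul_set haT

/-- The paired action is alternating or symmetric as well. -/
theorem paired_alt {n : ℕ} (hn : 5 ≤ n) (hprim : IsPreprimitive G X) {a b : X} (hab : a ≠ b)
    (φ : stabilizer G a →* Perm (Fin n)) (hφ : alternatingGroup (Fin n) ≤ φ.range)
    (ψ : stabilizer G b →* Perm (Fin n))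
    (hψ : ∀ l : stabilizer G b, ψ l = 1 → ∀ ω ∈ orbit (stabilizer G b) a, (l : G) • ω = ω) :
    alternatingGroup (Fin n) ≤ ψ.range := by
  classical
  set im : Set X → Subgroup (Perm (Fin n)) := fun S =>
    ((fixingSubgroup G S).subgroupOf (stabilizer G a)).map φ with him
  obtain ⟨S, ⟨haS, hA⟩, hmax⟩ := (Set.toFinite {S : Set X | a ∈ S ∧ alternatingGroup (Fin n) ≤ im S}).exists_maximal
    ⟨{a}, rfl, fun σ hσ => by
      obtain ⟨h, rfl⟩ := hφ hσ
      refine ⟨h, ?_, rfl⟩
      rw [SetLike.mem_coe, mem_subgroupOf, mem_fixingSubgroup_iff]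
      rintro _ rfl
      exact h.2⟩
  by_cases hcl : ∀ g : G, g • b ∈ S → ∀ ω ∈ orbit (stabilizer G b) a, g • ω ∈ S
  · exfalso
    refine alt_ne_bot hn (le_bot_iff.mp (hA.trans ?_))
    rintro _ ⟨h, hh, rfl⟩
    rw [mem_bot]
    have h1 : h = 1 := Subtype.ext (eq_of_smul_eq_smul fun x : X => by
      rw [closed_eq_univ hprim hab S haS hcl] at hh
      show (h : G) • x = (1 : G) • x
      rw [one_smul]
      exact (mem_fixingSubgroup_iff G).mp hh x (Set.mem_univ x))
    rw [h1, map_one]
  push Not at hcl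
  obtain ⟨g, hgb, ω₀, hω₀, hout⟩ := hcl
  set O : Set X := orbit (stabilizer G b) a with hO
  set S' : Set X := S ∪ g • O with hS'
  set F : Subgroup (stabilizer G a) := (fixingSubgroup G S).subgroupOf (stabilizer G a) with hF
  have hL : ∀ u : F, g⁻¹ * ((u : stabilizer G a) : G) * g ∈ stabilizer G b := fun u => by
    have hu : ((u : stabilizer G a) : G) • g • b = g • b :=
      (mem_fixingSubgroup_iff G).mp u.2 _ hgb
    rw [mem_stabilizer_iff, mul_smul, mul_smul, hu, inv_smul_smul]
  let f : F →* Perm (Fin n) := MonoidHom.mk' (fun u => ψ ⟨_, hL u⟩) fun u w => by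
    rw [← map_mul]
    exact congrArg ψ (Subtype.ext (by simp [mul_assoc]))
  have hOinv : ∀ l : stabilizer G b, ∀ ω ∈ O, (l : G) • ω ∈ O := by
    intro l ω hω
    exact mem_orbit_of_mem_orbit l hω
  -- the elements fixing the enlarged set
  set F' : Subgroup (stabilizer G a) := (fixingSubgroup G S').subgroupOf (stabilizer G a) with hF'
  have hN : F ≤ normalizer (F' : Set (stabilizer G a)) := by
    have key : ∀ u ∈ F, ∀ w ∈ F', u * w * u⁻¹ ∈ F' := by
      intro u hu w hw
      refine (mem_fixingSubgroup_iff G).mpr fun x hx => ?_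
      show ((u : G) * w * (u : G)⁻¹) • x = x
      have hu' : (u : G) ∈ fixingSubgroup G S := hu
      have hpre : (u : G)⁻¹ • x ∈ S' := by
        rcases hx with hx | ⟨ω, hω, rfl⟩
        · left; rw [(mem_fixingSubgroup_iff G).mp (inv_mem hu') x hx]; exact hx
        · right
          refine ⟨(g⁻¹ * (u : G)⁻¹ * g) • ω, hOinv ⟨_, ?_⟩ ω hω, ?_⟩
          · have := hL ⟨u⁻¹, inv_mem hu⟩
            simpa using this
          · show g • (g⁻¹ * (u : G)⁻¹ * g) • ω = (u : G)⁻¹ • g • ω
            simp [← mul_smul, mul_assoc]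
      have hw' : (w : G) • (u : G)⁻¹ • x = (u : G)⁻¹ • x :=
        (mem_fixingSubgroup_iff G).mp hw _ hpre
      rw [mul_smul, mul_smul, hw', smul_inv_smul]
    intro u hu
    rw [mem_normalizer_iff]
    intro w
    refine ⟨key u hu w, fun hw => ?_⟩
    have := key u⁻¹ (inv_mem hu) _ hw
    simpa [mul_assoc] using this
  have hbot : F'.map φ = ⊥ := by
    refine (dichotomy hn (hA.trans ((map_mono hN).trans (le_normalizer_map φ)))).resolve_right
      fun hle => hout ?_
    have h1 : S' ⊆ S := hmax ⟨Or.inl haS, hle⟩ Set.subset_union_left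
    exact h1 (Or.inr ⟨ω₀, hω₀, rfl⟩)
  set φF : F →* Perm (Fin n) := φ.comp F.subtype with hφF
  have hker : f.ker ≤ φF.ker := by
    intro u hu
    have hmem : (u : stabilizer G a) ∈ F' := by
      refine (mem_fixingSubgroup_iff G).mpr fun x hx => ?_
      rcases hx with hx | ⟨ω, hω, rfl⟩
      · exact (mem_fixingSubgroup_iff G).mp u.2 x hx
      · have := congrArg (g • ·) (hψ ⟨_, hL u⟩ hu ω hω)
        simpa [← mul_smul, mul_assoc] using this
    show φ (u : stabilizer G a) = 1
    rw [← mem_bot, ← hbot]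
    exact ⟨_, hmem, rfl⟩
  have hcard : Nat.card φF.range ≤ Nat.card f.range := by
    rw [← Nat.card_congr (QuotientGroup.quotientKerEquivRange f).toEquiv,
      ← Nat.card_congr (QuotientGroup.quotientKerEquivRange φF).toEquiv]
    exact Nat.le_of_dvd Nat.card_pos (index_dvd_of_le hker)
  have hr : Nat.card (alternatingGroup (Fin n)) ≤ Nat.card ψ.range := by
    refine ((card_le_of_le ?_).trans hcard).trans (card_le_of_le ?_)
    · rw [hφF, MonoidHom.range_comp, range_subtype]; exact hA
    · rintro _ ⟨u, rfl⟩; exact ⟨_, rfl⟩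
  have hidx : ψ.range.index ≤ 2 := by
    have h1 := card_mul_index ψ.range
    rw [Nat.card_perm, Nat.card_fin, ← card_alt (n := n) (by omega)] at h1
    have hpos : 0 < Nat.card (alternatingGroup (Fin n)) := Nat.card_pos
    nlinarith
  rcases Nat.lt_or_ge ψ.range.index 2 with h | h
  · have h1 : ψ.range.index = 1 := by
      have := ψ.range.index_ne_zero_of_finite
      omega
    rw [index_eq_one.mp h1]; exact le_top
  · exact (Equiv.Perm.eq_alternatingGroup_of_index_eq_two (by omega)).ge

end Cfsg.Lib.Recog.AltSub
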