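import Mathlib

/-!
# Facts on groups between an alternating and a symmetric group
-/

set_option autoImplicit false

namespace Cfsg.Lib.Recog.AltSub

open Equiv Equiv.Perm Subgroup

variable {n : ℕ}

theorem sq_eq_self_of_alt (hn : 5 ≤ n) :
    ⁅alternatingGroup (Fin n), alternatingGroup (Fin n)⁆ = alternatingGroup (Fin n) := by
  have h := congrArg (Subgroup.map (alternatingGroup (Fin n)).subtype)
    (commutator_alternatingGroup_eq_top (α := Fin n)
      (by rw [Nat.card_eq_fintype_card, Fintype.card_fin]; exact hn))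
  rwa [commutator_def, map_commutator, ← MonoidHom.range_eq_map, range_subtype] at h

theorem alt_ne_bot (hn : 5 ≤ n) : alternatingGroup (Fin n) ≠ ⊥ := by
  haveI : Nontrivial (alternatingGroup (Fin n)) :=
    alternatingGroup.nontrivial_of_three_le_card (by simp; omega)
  exact (Subgroup.nontrivial_iff_ne_bot _).mp inferInstance

theorem centralizer_alt (hn : 5 ≤ n) : centralizer (alternatingGroup (Fin n) : Set (Perm (Fin n))) = ⊥ := by
  haveI hN : (alternatingGroup (Fin n)).Normal := Equiv.Perm.sign.normal_ker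
  by_contra hne
  have hle := Equiv.Perm.alternatingGroup_le_of_normal
    (N := centralizer (alternatingGroup (Fin n) : Set (Perm (Fin n))))
    (by rw [Nat.card_eq_fintype_card, Fintype.card_fin]; exact hn)
    ((Subgroup.nontrivial_iff_ne_bot _).mpr hne)
  have h := (Subgroup.commutator_eq_bot_iff_le_centralizer).mpr hle
  rw [sq_eq_self_of_alt hn] at h
  exact alt_ne_bot hn h

theorem alt_normal_cases (hn : 5 ≤ n) {U : Subgroup (Perm (Fin n))} (hU : U ≤ alternatingGroup (Fin n))
    (hN : alternatingGroup (Fin n) ≤ normalizer (U : Set (Perm (Fin n)))) :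
    U = ⊥ ∨ U = alternatingGroup (Fin n) := by
  haveI := alternatingGroup.isSimpleGroup (α := Fin n)
    (by rw [Nat.card_eq_fintype_card, Fintype.card_fin]; exact hn)
  haveI : (U.subgroupOf (alternatingGroup (Fin n))).Normal :=
    (normal_subgroupOf_iff_le_normalizer hU).mpr hN
  rcases IsSimpleGroup.eq_bot_or_eq_top_of_normal (U.subgroupOf (alternatingGroup (Fin n)))
    inferInstance with h | h
  · rw [subgroupOf_eq_bot, disjoint_iff] at h
    exact Or.inl (by rwa [inf_eq_left.mpr hU] at h)
  · exact Or.inr (le_antisymm hU (subgroupOf_eq_top.mp h))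

/-- A normal subgroup of a group between the alternating and the symmetric group. -/
theorem dichotomy (hn : 5 ≤ n) {U : Subgroup (Perm (Fin n))}
    (hN : alternatingGroup (Fin n) ≤ normalizer (U : Set (Perm (Fin n)))) :
    U = ⊥ ∨ alternatingGroup (Fin n) ≤ U := by
  haveI hA : (alternatingGroup (Fin n)).Normal := Equiv.Perm.sign.normal_ker
  have hN' : alternatingGroup (Fin n) ≤ normalizer ((U ⊓ alternatingGroup (Fin n) : Subgroup _) :
      Set (Perm (Fin n))) := by
    intro a ha
    rw [mem_normalizer_iff]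
    intro x
    rw [mem_inf, mem_inf, mem_normalizer_iff.mp (hN ha) x]
    exact and_congr_right fun _ => (mem_normalizer_iff.mp (le_normalizer (H := alternatingGroup (Fin n)) ha) x)
  rcases alt_normal_cases hn inf_le_right hN' with h | h
  · left
    have hc : ⁅U, alternatingGroup (Fin n)⁆ = ⊥ := by
      rw [eq_bot_iff, ← h]
      refine le_inf ?_ (commutator_le_right _ _)
      rw [commutator_le]
      intro u hu a ha
      rw [commutatorElement_def, show u * a * u⁻¹ * a⁻¹ = u * (a * u⁻¹ * a⁻¹) by group]
      exact mul_mem hu ((mem_normalizer_iff.mp (hN ha) _).mp (inv_mem hu))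
    rw [eq_bot_iff, ← centralizer_alt hn]
    exact commutator_eq_bot_iff_le_centralizer.mp hc
  · exact Or.inr (h ▸ inf_le_left)

theorem eq_bot_of_comm (hn : 5 ≤ n) {U : Subgroup (Perm (Fin n))}
    (hN : alternatingGroup (Fin n) ≤ normalizer (U : Set (Perm (Fin n))))
    (hcomm : ∀ x ∈ U, ∀ y ∈ U, x * y = y * x) : U = ⊥ := by
  refine (dichotomy hn hN).resolve_right fun hle => alt_ne_bot hn ?_
  rw [← sq_eq_self_of_alt hn, commutator_eq_bot_iff_le_centralizer]
  exact fun a ha => mem_centralizer_iff.mpr fun b hb => hcomm b (hle hb) a (hle ha)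

theorem alt_transitive (hn : 3 ≤ n) (x y : Fin n) : ∃ σ ∈ alternatingGroup (Fin n), σ x = y := by
  haveI := alternatingGroup.isPretransitive_of_three_le_card (α := Fin n)
    (by rw [Nat.card_eq_fintype_card, Fintype.card_fin]; exact hn)
  obtain ⟨σ, hσ⟩ := MulAction.exists_smul_eq (alternatingGroup (Fin n)) x y
  exact ⟨σ, σ.2, hσ⟩

theorem card_alt (hn : 2 ≤ n) : 2 * Nat.card (alternatingGroup (Fin n)) = n.factorial := by
  haveI : Nontrivial (Fin n) := Fin.nontrivial_iff_two_le.mpr hn
  rw [Nat.card_eq_fintype_card, two_mul_card_alternatingGroup, Fintype.card_perm, Fintype.card_fin]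

/-- Restriction of the permutations fixing `0`. -/
def restr (n : ℕ) : MulAction.stabilizer (Perm (Fin (n + 1))) (0 : Fin (n + 1)) →* Perm (Fin n) :=
  MonoidHom.mk' (fun σ => (decomposeFin (σ : Perm (Fin (n + 1)))).2) fun σ τ => by
    have key : ∀ ρ : MulAction.stabilizer (Perm (Fin (n + 1))) (0 : Fin (n + 1)), ∀ j : Fin n,
        (ρ : Perm (Fin (n + 1))) j.succ = ((decomposeFin (ρ : Perm (Fin (n + 1)))).2 j).succ := by
      intro ρ j
      conv_lhs => rw [← decomposeFin.symm_apply_apply (ρ : Perm (Fin (n + 1)))]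
      have h0 : (decomposeFin (ρ : Perm (Fin (n + 1)))).1 = 0 := by
        have h := decomposeFin_symm_apply_zero (decomposeFin (ρ : Perm (Fin (n + 1)))).1
          (decomposeFin (ρ : Perm (Fin (n + 1)))).2
        rw [Prod.mk.eta, decomposeFin.symm_apply_apply] at h
        exact h.symm.trans ρ.2
      conv_lhs => rw [← Prod.mk.eta (p := decomposeFin (ρ : Perm (Fin (n + 1)))), h0]
      rw [decomposeFin_symm_apply_succ, swap_self, Equiv.refl_apply]
    ext1 j
    refine Fin.succ_injective _ ?_
    rw [← key]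
    show (σ : Perm (Fin (n + 1))) ((τ : Perm (Fin (n + 1))) j.succ) = _
    rw [key, key]
    rfl

theorem restr_spec (σ : MulAction.stabilizer (Perm (Fin (n + 1))) (0 : Fin (n + 1))) :
    decomposeFin.symm (0, restr n σ) = (σ : Perm (Fin (n + 1))) := by
  have h0 : (decomposeFin (σ : Perm (Fin (n + 1)))).1 = 0 := by
    have h := decomposeFin_symm_apply_zero (decomposeFin (σ : Perm (Fin (n + 1)))).1
      (decomposeFin (σ : Perm (Fin (n + 1)))).2
    rw [Prod.mk.eta, decomposeFin.symm_apply_apply] at h
    exact h.symm.trans σ.2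
  show decomposeFin.symm (0, (decomposeFin (σ : Perm (Fin (n + 1)))).2) = _
  conv_rhs => rw [← decomposeFin.symm_apply_apply (σ : Perm (Fin (n + 1))),
    ← Prod.mk.eta (p := decomposeFin (σ : Perm (Fin (n + 1)))), h0]

theorem restr_injective : Function.Injective (restr n) := fun σ τ h =>
  Subtype.ext (by rw [← restr_spec σ, ← restr_spec τ, h])

theorem restr_apply (σ : MulAction.stabilizer (Perm (Fin (n + 1))) (0 : Fin (n + 1))) (j : Fin n) :
    (σ : Perm (Fin (n + 1))) j.succ = (restr n σ j).succ := by
  conv_lhs => rw [← restr_spec σ, decomposeFin_symm_apply_succ, swap_self, Equiv.refl_apply]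

theorem sign_restr (σ : MulAction.stabilizer (Perm (Fin (n + 1))) (0 : Fin (n + 1))) :
    sign (restr n σ) = sign (σ : Perm (Fin (n + 1))) := by
  conv_rhs => rw [← restr_spec σ]
  simp

end Cfsg.Lib.Recog.AltSub
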