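import Cfsg.Agent.Lib.Recog.AltSubconstituent.Trivial

/-!
# The shape of the first subgroup
-/

set_option autoImplicit false
set_option linter.unusedSectionVars false

namespace Cfsg.Lib.Recog.AltSub

open Equiv Equiv.Perm Subgroup

universe u

variable {G : Type u} [Group G] [Finite G] {n : ℕ} (P : Pair G n)

theorem Pair.commute_K_symm_K : ∀ x ∈ P.K, ∀ y ∈ P.symm.K, x * y = y * x :=
  commute_of_inf_eq_bot P.N_eq_bot
    ((P.symm.K_le_D.trans (inf_comm P.L P.H).le).trans P.D_le_normalizer_K)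
    (P.K_le_D.trans P.D_le_normalizer_symm_K)

theorem Pair.card_K_le : Nat.card P.K ≤ n.factorial := by
  rw [P.symm.card_eq P.K_le_symm_D, show P.K ⊓ P.symm.K = ⊥ from P.N_eq_bot, card_bot, mul_one]
  exact P.symm.card_img_le _

theorem Pair.card_range_le : Nat.card P.ψ.range ≤ Nat.card P.φ.range := by
  obtain ⟨e⟩ := P.iso
  set f := P.ψ.comp e.toMonoidHom with hf
  have hr : f.range = P.ψ.range := by
    rw [hf, MonoidHom.range_comp, MonoidHom.range_eq_top.mpr e.surjective, ← MonoidHom.range_eq_map]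
  have hle : P.φ.ker ≤ f.ker := by
    rw [← Subgroup.map_eq_bot_iff]
    refine (dichotomy (U := P.φ.ker.map f) (by have := P.five; omega) ?_).resolve_right fun h => ?_
    · refine le_trans (hr ▸ P.altψ) ?_
      rw [MonoidHom.range_eq_map]
      exact le_trans (map_mono (normalizer_eq_top P.φ.ker).ge) (le_normalizer_map f)
    · have h1 := card_le_of_le h
      have h2 : Nat.card (P.φ.ker.map f) ≤ Nat.card P.φ.ker :=
        Nat.card_le_card_of_surjective _ (MonoidHom.subgroupMap_surjective f P.φ.ker)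
      have h3 : Nat.card P.K = Nat.card P.φ.ker := card_map_of_injective P.H.subtype_injective
      have h4 := P.card_K_le
      have h5 := card_alt (n := n + 1) (by have := P.five; omega)
      rw [Nat.factorial_succ] at h5
      have h6 : 0 < n.factorial := n.factorial_pos
      have h7 := P.five
      have h8 : 3 * n.factorial ≤ (n + 1) * n.factorial := Nat.mul_le_mul_right _ (by omega)
      omega
  rw [← hr, ← Nat.card_congr (QuotientGroup.quotientKerEquivRange f).toEquiv,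
    ← Nat.card_congr (QuotientGroup.quotientKerEquivRange P.φ).toEquiv]
  exact Nat.le_of_dvd Nat.card_pos (index_dvd_of_le hle)

theorem Pair.range_eq_top_iff : P.ψ.range = ⊤ ↔ P.φ.range = ⊤ := by
  have h1 := P.card_range_le
  have h2 : Nat.card P.φ.range ≤ Nat.card P.ψ.range := P.symm.card_range_le
  rw [← card_eq_iff_eq_top, ← card_eq_iff_eq_top, le_antisymm h1 h2]

/-- The second action seen on the first subgroup. -/
theorem Pair.exists_hom (hne : P.K ≠ ⊥) :
    ∃ χ : P.H →* Perm (Fin n), Function.Injective (P.φ.prod χ) ∧ χ.range = P.symm.α.range ∧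
      (alternatingGroup (Fin (n + 1))).prod (alternatingGroup (Fin n)) ≤ (P.φ.prod χ).range := by
  classical
  have hKH : P.K ≤ P.H := P.K_le_D.trans inf_le_left
  set C : Subgroup P.H := (centralizer (P.K : Set G)).subgroupOf P.H with hCdef
  have hCn : C.Normal := by
    refine ⟨fun c hc h => mem_centralizer_iff.mpr fun k hk => ?_⟩
    have h1 := mem_centralizer_iff.mp hc ((h : G)⁻¹ * k * h)
      ((mem_normalizer_iff''.mp (P.H_le_normalizer_K h.2) k).mp hk)
    show k * ((h : G) * c * (h : G)⁻¹) = (h : G) * c * (h : G)⁻¹ * k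
    calc k * ((h : G) * c * (h : G)⁻¹) = (h : G) * ((h : G)⁻¹ * k * h * c) * (h : G)⁻¹ := by group
      _ = (h : G) * ((c : G) * ((h : G)⁻¹ * k * h)) * (h : G)⁻¹ :=
        congrArg (fun z => (h : G) * z * (h : G)⁻¹) h1
      _ = _ := by group
  have hQC : ∀ q : P.H, (q : G) ∈ P.symm.K → q ∈ C := fun q hq =>
    mem_centralizer_iff.mpr fun k hk => P.commute_K_symm_K k hk q hq
  have hCD : ∀ c : P.H, c ∈ C → (c : G) ∈ P.L → (c : G) ∈ P.symm.K := by
    intro c hc hL
    refine (P.symm.α_eq_one (x := ⟨c, hL, c.2⟩)).mp ?_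
    rw [← mem_bot, ← centralizer_alt P.five]
    refine mem_centralizer_iff.mpr fun a ha => ?_
    obtain ⟨k, hk, rfl⟩ := P.symm.alt_le_img (P.symm_K_ne_bot hne) ha
    rw [← map_mul, ← map_mul]
    exact congrArg _ (Subtype.ext (mem_centralizer_iff.mp hc _ hk))
  have hQD : ∀ q ∈ P.symm.K, q ∈ P.H := fun q hq => (P.symm.K_le_D hq).2
  have hφC : alternatingGroup (Fin (n + 1)) ≤ C.map P.φ := by
    refine (dichotomy (U := C.map P.φ) (by have := P.five; omega) (P.altφ.trans ?_)).resolve_left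
      fun h => P.not_le hne fun q hq => ?_
    · rw [MonoidHom.range_eq_map]
      exact le_trans (map_mono (normalizer_eq_top C).ge) (le_normalizer_map P.φ)
    · refine P.mem_K.mpr ⟨hQD q hq, ?_⟩
      rw [← mem_bot, ← h]
      exact ⟨_, hQC ⟨q, hQD q hq⟩ hq, rfl⟩
  have hdec : ∀ h : P.H, ∃ c : P.H, c ∈ C ∧ ((c⁻¹ * h : P.H) : G) ∈ P.symm.D := by
    intro h
    obtain ⟨σ, hσ, hσx⟩ := alt_transitive (n := n + 1) (by have := P.five; omega) 0 (P.φ h 0)
    obtain ⟨c, hc, rfl⟩ := hφC hσ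
    refine ⟨c, hc, (P.memφ _).mpr ?_, SetLike.coe_mem _⟩
    rw [map_mul, Perm.mul_apply, map_inv, Perm.inv_eq_iff_eq, hσx]
  choose c hcC hcD using hdec
  have huniq : ∀ (h c' : P.H), c' ∈ C → ∀ hd : ((c'⁻¹ * h : P.H) : G) ∈ P.symm.D,
      P.symm.α ⟨_, hd⟩ = P.symm.α ⟨_, hcD h⟩ := by
    intro h c' hc' hd
    have hq : ((c'⁻¹ * c h : P.H) : G) ∈ P.L := by
      have h2 : ((c'⁻¹ * c h : P.H) : G) =
          ((c'⁻¹ * h : P.H) : G) * (((c h)⁻¹ * h : P.H) : G)⁻¹ := by
        simp [mul_assoc]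
      rw [h2]
      exact mul_mem hd.1 (inv_mem (hcD h).1)
    have hQ := hCD _ (mul_mem (inv_mem hc') (hcC h)) hq
    have e : (⟨_, hd⟩ : P.symm.D) = ⟨_, hq, SetLike.coe_mem (c'⁻¹ * c h)⟩ * ⟨_, hcD h⟩ :=
      Subtype.ext (by simp [mul_assoc])
    rw [e, map_mul, P.symm.α_eq_one.mpr hQ, one_mul]
  let χ : P.H →* Perm (Fin n) := MonoidHom.mk' (fun h => P.symm.α ⟨_, hcD h⟩) fun h₁ h₂ => by
    set d₁ : P.H := (c h₁)⁻¹ * h₁ with hd₁
    have hmem : c h₁ * (d₁ * c h₂ * d₁⁻¹) ∈ C := mul_mem (hcC _) (hCn.conj_mem _ (hcC _) _)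
    have heq : (c h₁ * (d₁ * c h₂ * d₁⁻¹))⁻¹ * (h₁ * h₂) = d₁ * ((c h₂)⁻¹ * h₂) := by
      rw [hd₁]; group
    have hd : (((c h₁ * (d₁ * c h₂ * d₁⁻¹))⁻¹ * (h₁ * h₂) : P.H) : G) ∈ P.symm.D := by
      rw [heq]; exact mul_mem (hcD h₁) (hcD h₂)
    rw [← huniq (h₁ * h₂) _ hmem hd, ← map_mul]
    refine congrArg _ (Subtype.ext ?_)
    exact congrArg (fun z : P.H => (z : G)) heq
  have hχC : ∀ h ∈ C, χ h = 1 := fun h hh => by
    show P.symm.α _ = 1
    rw [← huniq h h hh (by rw [inv_mul_cancel]; exact one_mem _)]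
    refine P.symm.α_eq_one.mpr ?_
    show ((h⁻¹ * h : P.H) : G) ∈ P.symm.K
    rw [inv_mul_cancel]; exact one_mem _
  have hχD : ∀ (h : P.H) (hd : (h : G) ∈ P.symm.D), χ h = P.symm.α ⟨h, hd⟩ := fun h hd => by
    show P.symm.α _ = _
    rw [← huniq h 1 (one_mem _) (by simpa using hd)]
    exact congrArg _ (Subtype.ext (by simp))
  refine ⟨χ, (injective_iff_map_eq_one _).mpr fun h hh => ?_, ?_, ?_⟩
  · obtain ⟨h1, h2⟩ := Prod.ext_iff.mp hh
    have hK : (h : G) ∈ P.K := P.mem_K.mpr ⟨h.2, h1⟩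
    have hQ := P.symm.α_eq_one.mp ((hχD h (P.K_le_symm_D hK)).symm.trans h2)
    exact Subtype.ext ((mem_bot (G := G)).mp (P.N_eq_bot ▸ ⟨hK, hQ⟩))
  · refine le_antisymm ?_ ?_
    · rintro _ ⟨h, rfl⟩; exact ⟨_, rfl⟩
    · rintro _ ⟨d, rfl⟩; exact ⟨⟨d, d.2.2⟩, hχD _ d.2⟩
  · rintro ⟨σ, τ⟩ ⟨hσ, hτ⟩
    obtain ⟨h₁, hh₁, rfl⟩ := hφC hσ
    obtain ⟨k, hk, rfl⟩ := P.symm.alt_le_img (P.symm_K_ne_bot hne) hτ
    set h₂ : P.H := ⟨k, k.2.2⟩ with hh₂
    refine ⟨h₁ * h₂, Prod.ext ?_ ?_⟩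
    · show P.φ (h₁ * h₂) = _
      obtain ⟨_, hk1⟩ := P.mem_K.mp (show (k : G) ∈ P.K from hk)
      rw [map_mul, show P.φ h₂ = 1 from hk1, mul_one]
    · show χ (h₁ * h₂) = _
      rw [map_mul, hχC h₁ hh₁, one_mul, hχD h₂ k.2]

/-- The sign-matching subgroup. -/
def signEq (m k : ℕ) : Subgroup (Perm (Fin m) × Perm (Fin k)) :=
  ((Equiv.Perm.sign.comp (MonoidHom.fst (Perm (Fin m)) (Perm (Fin k)))) *
    (Equiv.Perm.sign.comp (MonoidHom.snd (Perm (Fin m)) (Perm (Fin k))))).ker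

theorem mem_signEq {m k : ℕ} {p : Perm (Fin m) × Perm (Fin k)} :
    p ∈ signEq m k ↔ sign p.1 = sign p.2 := by
  show sign p.1 * sign p.2 = 1 ↔ _
  rw [mul_eq_one_iff_eq_inv, Int.units_inv_eq_self]

theorem Pair.range_symm_α : (P.φ.range = ⊤ → P.symm.α.range = ⊤) ∧
    (P.φ.range = alternatingGroup (Fin (n + 1)) → P.symm.α.range = alternatingGroup (Fin n)) := by
  constructor
  · intro h
    rw [← P.range_eq_top_iff] at h
    rw [eq_top_iff]
    intro τ _
    obtain ⟨l, hl⟩ : decomposeFin.symm ((0 : Fin (n + 1)), τ) ∈ P.ψ.range := h ▸ Subgroup.mem_top _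
    have hH : (l : G) ∈ P.H := (P.memψ l).mpr (by rw [hl, decomposeFin_symm_apply_zero])
    refine ⟨⟨l, l.2, hH⟩, Equiv.ext fun j => Fin.succ_injective _ ?_⟩
    rw [← P.symm.φ_succ]
    show P.ψ l j.succ = _
    rw [hl, decomposeFin_symm_apply_succ, swap_self, Equiv.refl_apply]
  · intro h
    haveI : Nontrivial (Fin (n + 1)) := Fin.nontrivial_iff_two_le.mpr (by have := P.five; omega)
    have hψ : P.ψ.range = alternatingGroup (Fin (n + 1)) := by
      refine (Subgroup.eq_of_le_of_card_ge P.altψ ?_).symm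
      rw [← h]; exact P.card_range_le
    refine le_antisymm ?_ P.symm.alt_le_range_α
    rintro _ ⟨d, rfl⟩
    rw [Equiv.Perm.mem_alternatingGroup, P.symm.sign_α, ← Equiv.Perm.mem_alternatingGroup, ← hψ]
    exact ⟨_, rfl⟩

/-- The possible shapes. -/
theorem Pair.shape (hne : P.K ≠ ⊥) :
    (P.φ.range = alternatingGroup (Fin (n + 1)) →
      Nonempty (P.H ≃* alternatingGroup (Fin (n + 1)) × alternatingGroup (Fin n))) ∧
    (P.φ.range = ⊤ →
      Nonempty (P.H ≃* Perm (Fin (n + 1)) × Perm (Fin n)) ∨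
      Nonempty (P.H ≃* signEq (n + 1) n)) := by
  obtain ⟨χ, hinj, hχ, hge⟩ := P.exists_hom hne
  obtain ⟨htop, halt⟩ := P.range_symm_α
  constructor
  · intro h
    have hχ' := hχ.trans (halt h)
    have he : (P.φ.prod χ).range =
        (alternatingGroup (Fin (n + 1))).prod (alternatingGroup (Fin n)) :=
      le_antisymm (by rintro _ ⟨x, rfl⟩; exact ⟨h ▸ ⟨x, rfl⟩, hχ' ▸ ⟨x, rfl⟩⟩) hge
    exact ⟨((MonoidHom.ofInjective hinj).trans (MulEquiv.subgroupCongr he)).trans
      (Subgroup.prodEquiv _ _)⟩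
  · intro h
    have hχ' := hχ.trans (htop h)
    haveI : Nontrivial (Fin (n + 1)) := Fin.nontrivial_iff_two_le.mpr (by have := P.five; omega)
    by_cases hmix : ∃ x, sign (P.φ x) ≠ sign (χ x)
    · left
      obtain ⟨x, hx⟩ := hmix
      have he : (P.φ.prod χ).range = ⊤ := by
        have key : ∀ σ τ, ∃ y, sign (P.φ y) = σ ∧ sign (χ y) = τ := by
          intro σ τ
          obtain ⟨z, hz⟩ : ∃ z, sign (P.φ z) = -1 := by
            obtain ⟨s, hs⟩ := sign_surjective (Fin (n + 1)) (-1)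
            obtain ⟨z, rfl⟩ : s ∈ P.φ.range := h ▸ Subgroup.mem_top _
            exact ⟨z, hs⟩
          obtain ⟨w, hw⟩ : ∃ w, sign (χ w) = -1 := by
            haveI : Nontrivial (Fin n) := Fin.nontrivial_iff_two_le.mpr (by have := P.five; omega)
            obtain ⟨s, hs⟩ := sign_surjective (Fin n) (-1)
            obtain ⟨w, rfl⟩ : s ∈ χ.range := hχ' ▸ Subgroup.mem_top _
            exact ⟨w, hs⟩
          have two : ∀ u : ℤˣ, u = 1 ∨ u = -1 := Int.units_eq_one_or
          obtain ⟨⟨y, hy1, hy2⟩, ⟨y', hy1', hy2'⟩⟩ :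
              (∃ y, sign (P.φ y) = 1 ∧ sign (χ y) = -1) ∧
              (∃ y, sign (P.φ y) = -1 ∧ sign (χ y) = 1) := by
            rcases two (sign (P.φ x)) with hx1 | hx1 <;> rcases two (sign (χ x)) with hx2 | hx2
            · exact absurd (hx1.trans hx2.symm) hx
            · refine ⟨⟨x, hx1, hx2⟩, ?_⟩
              rcases two (sign (χ z)) with hz2 | hz2
              · exact ⟨z, hz, hz2⟩
              · exact ⟨z * x, by simp [hz, hx1], by simp [hz2, hx2]⟩
            · refine ⟨?_, ⟨x, hx1, hx2⟩⟩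
              rcases two (sign (P.φ w)) with hw1 | hw1
              · exact ⟨w, hw1, hw⟩
              · exact ⟨w * x, by simp [hw1, hx1], by simp [hw, hx2]⟩
            · exact absurd (hx1.trans hx2.symm) hx
          rcases two σ with rfl | rfl <;> rcases two τ with rfl | rfl
          · exact ⟨1, by simp, by simp⟩
          · exact ⟨y, hy1, hy2⟩
          · exact ⟨y', hy1', hy2'⟩
          · exact ⟨y * y', by simp [hy1, hy1'], by simp [hy2, hy2']⟩
        rw [eq_top_iff]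
        rintro ⟨σ, τ⟩ -
        obtain ⟨y, hy1, hy2⟩ := key (sign σ) (sign τ)
        have hm : ((P.φ y)⁻¹ * σ, (χ y)⁻¹ * τ) ∈ (P.φ.prod χ).range :=
          hge ⟨by simp [hy1], by simp [hy2]⟩
        have := mul_mem (show P.φ.prod χ y ∈ (P.φ.prod χ).range from ⟨y, rfl⟩) hm
        simpa using this
      exact ⟨((MonoidHom.ofInjective hinj).trans (MulEquiv.subgroupCongr he)).trans topEquiv⟩
    · right
      push Not at hmix
      have he : (P.φ.prod χ).range = signEq (n + 1) n := by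
        refine le_antisymm (by rintro _ ⟨x, rfl⟩; exact mem_signEq.mpr (hmix x)) ?_
        rintro ⟨σ, τ⟩ hστ
        rw [mem_signEq] at hστ
        obtain ⟨y, hy⟩ : σ ∈ P.φ.range := h ▸ Subgroup.mem_top _
        have hs : sign (χ y) = sign τ := by rw [← hmix y, hy]; exact hστ
        have hm : ((1 : Perm (Fin (n + 1))), (χ y)⁻¹ * τ) ∈ (P.φ.prod χ).range :=
          hge ⟨one_mem _, by simp [hs]⟩
        have := mul_mem (show P.φ.prod χ y ∈ (P.φ.prod χ).range from ⟨y, rfl⟩) hm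
        simpa [hy] using this
      exact ⟨(MonoidHom.ofInjective hinj).trans (MulEquiv.subgroupCongr he)⟩

end Cfsg.Lib.Recog.AltSub
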