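import Cfsg.Agent.Lib.Recog.AltSubconstituent.Kernel

/-!
# The common kernel is trivial
-/

set_option autoImplicit false
set_option linter.unusedSectionVars false

namespace Cfsg.Lib.Recog.AltSub

open Equiv Equiv.Perm Subgroup Cfsg.Lib.Perm.TW

universe u

variable {G : Type u} [Group G] [Finite G] {n : ℕ} (P : Pair G n)

theorem not_isPGroup_alt {m : ℕ} (hm : 5 ≤ m) {p : ℕ} (hp : p.Prime) :
    ¬ IsPGroup p (alternatingGroup (Fin m)) := by
  intro hA
  obtain ⟨σ, hσ⟩ : ∃ σ : Perm (Fin m), σ.cycleType = {3} :=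
    (Equiv.Perm.exists_with_cycleType_iff (α := Fin m)).mpr ⟨by simp; omega, by simp⟩
  obtain ⟨τ, hτ⟩ : ∃ τ : Perm (Fin m), τ.cycleType = {2, 2} :=
    (Equiv.Perm.exists_with_cycleType_iff (α := Fin m)).mpr ⟨by simp; omega, by simp⟩
  have hσA : σ ∈ alternatingGroup (Fin m) := by
    rw [Equiv.Perm.mem_alternatingGroup, sign_of_cycleType, hσ]; rfl
  have hτA : τ ∈ alternatingGroup (Fin m) := by
    rw [Equiv.Perm.mem_alternatingGroup, sign_of_cycleType, hτ]; rfl
  obtain ⟨a, ha⟩ := hA ⟨σ, hσA⟩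
  obtain ⟨b, hb⟩ := hA ⟨τ, hτA⟩
  have h1 : orderOf σ ∣ p ^ a := orderOf_dvd_of_pow_eq_one (congrArg Subtype.val ha)
  have h2 : orderOf τ ∣ p ^ b := orderOf_dvd_of_pow_eq_one (congrArg Subtype.val hb)
  rw [← lcm_cycleType, hσ] at h1
  rw [← lcm_cycleType, hτ] at h2
  have e1 : 3 ∣ p := Nat.Prime.dvd_of_dvd_pow Nat.prime_three (by simpa using h1)
  have e2 : 2 ∣ p := Nat.Prime.dvd_of_dvd_pow Nat.prime_two (by simpa using h2)
  rw [← (Nat.prime_dvd_prime_iff_eq Nat.prime_three hp).mp e1] at e2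
  omega

theorem two_pow_lt_factorial {m : ℕ} (hm : 5 ≤ m) : 2 ^ (m + 1) < m.factorial := by
  induction m, hm using Nat.le_induction with
  | base => decide
  | succ k hk ih =>
    rw [pow_succ, Nat.factorial_succ, mul_comm]
    calc 2 * 2 ^ (k + 1) < 2 * k.factorial := by omega
      _ ≤ (k + 1) * k.factorial := Nat.mul_le_mul_right _ (by omega)

theorem Pair.coreIn_eq : coreIn (P.H ⊓ P.L) P.H = P.K := by
  refine le_antisymm ?_ (le_coreIn P.K_le_D (P.K_le_D.trans inf_le_left) P.H_le_normalizer_K)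
  intro x hx
  refine P.mem_K.mpr ⟨coreIn_le_right _ _ hx, Equiv.ext fun j => ?_⟩
  obtain ⟨h, hh⟩ := P.exists_point j
  have hc : (h : G)⁻¹ * x * h ∈ coreIn (P.H ⊓ P.L) P.H :=
    (mem_normalizer_iff''.mp (le_normalizer_coreIn _ _ h.2) x).mp hx
  have hD := coreIn_le_left _ _ hc
  set x' : P.H := ⟨x, coreIn_le_right _ _ hx⟩
  have h0 := (P.memφ (h⁻¹ * x' * h)).mp hD.2
  rw [map_mul, map_mul, Perm.mul_apply, Perm.mul_apply, hh, map_inv, Perm.inv_eq_iff_eq, hh] at h0
  exact h0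

/-- A `p`-subgroup of the first kernel normal there lies in the second kernel. -/
theorem Pair.pc_le_symm_K {p : ℕ} (hp : p.Prime) : pc p P.K ≤ P.symm.K := by
  have hKD := P.K_le_symm_D
  refine (P.symm.le_K_or_alt_le ((pc_le p _).trans hKD) le_rfl
    (P.symm.img_top ▸ P.symm.alt_le_range_α) ?_).resolve_right fun h => ?_
  · exact pc_normalizer_mono ((inf_comm P.L P.H).trans_le P.D_le_normalizer_K)
  · refine not_isPGroup_alt (m := n) P.five hp ?_
    have hpg : IsPGroup p (P.symm.img (pc p P.K)) :=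
      ((isPGroup_pc p P.K).comap_subtype (K := P.symm.D)).map _
    exact hpg.to_le h

theorem Pair.pc_eq {p : ℕ} (hp : p.Prime) (hne : P.K ≠ ⊥) : pc p P.K = pc p P.symm.K :=
  le_antisymm
    (le_pc (P.pc_le_symm_K hp)
      ((P.symm.K_le_D.trans ((inf_comm P.L P.H).trans_le P.D_le_normalizer_K)).trans
        (pc_normalizer_mono le_rfl)) (isPGroup_pc p _))
    (le_pc (P.symm.pc_le_symm_K hp)
      ((P.K_le_D.trans ((inf_comm P.H P.L).trans_le P.symm.D_le_normalizer_K)).trans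
        (pc_normalizer_mono le_rfl)) (isPGroup_pc p _))

theorem Pair.pc_H_eq_bot {p : ℕ} (hp : p.Prime) (hne : P.K ≠ ⊥) : pc p P.H = ⊥ := by
  have h0 : pc p P.K = ⊥ := by
    refine P.loc _ ((pc_le p _).trans P.K_le_D) (pc_normalizer_mono P.H_le_normalizer_K) ?_
    rw [P.pc_eq hp hne]
    exact pc_normalizer_mono P.symm.H_le_normalizer_K
  have hle : pc p P.H ≤ P.K := by
    intro x hx
    refine P.mem_K.mpr ⟨pc_le p _ hx, ?_⟩
    set U : Subgroup (Perm (Fin (n + 1))) := ((pc p P.H).subgroupOf P.H).map P.φ with hU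
    have hbot : U = ⊥ := by
      refine (dichotomy (by have := P.five; omega) (P.altφ.trans ?_)).resolve_right fun h => ?_
      · rw [MonoidHom.range_eq_map]
        refine le_trans (map_mono fun y _ => ?_) (le_normalizer_map P.φ)
        rw [mem_normalizer_iff]
        intro z
        exact mem_normalizer_iff.mp (le_normalizer_pc p P.H y.2) z
      · refine not_isPGroup_alt (m := n + 1) (by have := P.five; omega) hp ?_
        exact (((isPGroup_pc p P.H).comap_subtype (K := P.H)).map P.φ).to_le h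
    have hmem : P.φ ⟨x, pc_le p _ hx⟩ ∈ U := ⟨⟨x, pc_le p _ hx⟩, hx, rfl⟩
    rwa [hbot, mem_bot] at hmem
  exact le_bot_iff.mp (h0 ▸ le_pc hle ((P.K_le_D.trans inf_le_left).trans (le_normalizer_pc p P.H))
    (isPGroup_pc p _))

theorem Pair.not_both_nontriv (hne : P.K ≠ ⊥) : P.CoreTriv ∨ P.symm.CoreTriv := by
  by_contra hcon
  push Not at hcon
  obtain ⟨hX, hY⟩ := hcon
  simp only [Pair.CoreTriv, not_forall] at hX hY
  obtain ⟨X, hXN, hXn, hX1⟩ := hX
  obtain ⟨Y, hYN, hYn, hY1⟩ := hY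
  have eB : coreIn (P.H ⊓ P.L) P.L = P.symm.K := by
    rw [inf_comm]; exact P.symm.coreIn_eq
  have hA2 : coreIn (coreIn (P.H ⊓ P.L) P.H ⊓ coreIn (P.H ⊓ P.L) P.L) P.H ≠ ⊥ := fun h => hX1 (by
    rw [P.coreIn_eq, eB] at h
    exact le_bot_iff.mp (h ▸ le_coreIn hXN ((hXN.trans inf_le_left).trans
      (P.K_le_D.trans inf_le_left)) hXn))
  have hB2 : coreIn (coreIn (P.H ⊓ P.L) P.H ⊓ coreIn (P.H ⊓ P.L) P.L) P.L ≠ ⊥ := fun h => hY1 (by
    rw [P.coreIn_eq, eB] at h
    exact le_bot_iff.mp (h ▸ le_coreIn (hYN.trans (inf_comm _ _).le) ((hYN.trans inf_le_left).trans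
      (P.symm.K_le_D.trans inf_le_left)) hYn))
  obtain ⟨e⟩ := P.iso
  obtain ⟨p, hp, -, hF, -⟩ := thompson_wielandt P.selfH P.selfL P.H_ne_L e hA2 hB2
  haveI : Nontrivial P.H := (Subgroup.nontrivial_iff_ne_bot _).mpr fun h =>
    hne (le_bot_iff.mp (h ▸ P.K_le_D.trans inf_le_left))
  refine Cfsg.Lib.Core.generalizedFitting_ne_bot (G := P.H) ?_
  rw [hF]
  have h := P.pc_H_eq_bot hp hne
  rwa [pc, map_eq_bot_iff_of_injective _ P.H.subtype_injective] at h

theorem Pair.N_eq_bot_of_coreTriv (hne : P.K ≠ ⊥) (hc : P.CoreTriv) : P.N = ⊥ := by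
  by_cases hfix : ∀ g ∈ P.H, conjg g P.T = P.T
  · exact P.N_eq_bot_of_fixed hne hc hfix
  push Not at hfix
  obtain ⟨g₀, hg₀, hmove⟩ := hfix
  exfalso
  have hneQ := P.symm_K_ne_bot hne
  by_cases hc' : P.symm.CoreTriv
  · refine P.symm.U_ne_bot hneQ hc' ?_
    rw [← P.symm.U_inf_N hneQ hc', left_eq_inf]
    intro u hu
    refine ⟨hu.1, P.mem_K_of_centralize hne hc hg₀ hmove
      ((P.symm.K_le_D.trans (inf_comm P.L P.H).le) hu.1) ?_⟩
    exact mem_centralizer_iff.mpr fun z hz => mem_centralizer_iff.mp hu.2 z ⟨hz.2, hz.1⟩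
  · simp only [Pair.CoreTriv, not_forall] at hc'
    obtain ⟨X, hXN, hXn, hX1⟩ := hc'
    obtain ⟨e⟩ := P.iso
    have hXL : X ≤ P.L := hXN.trans (inf_le_left.trans (P.symm.K_le_D.trans inf_le_left))
    set W : Subgroup G := ((X.subgroupOf P.L).map e.symm.toMonoidHom).map P.H.subtype with hWdef
    have hcard : Nat.card W = Nat.card X := by
      rw [hWdef, card_map_of_injective P.H.subtype_injective, card_map_of_injective e.symm.injective]
      exact Nat.card_congr (subgroupOfEquivOfLe hXL).toEquiv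
    have hWn : P.H ≤ normalizer (W : Set G) := by
      refine le_normalizer_map_subtype ?_
      exact ((normal_subgroupOf_iff_le_normalizer hXL).mpr hXn).map _ e.symm.surjective
    have hW1 : W ≠ ⊥ := fun h => hX1 (card_eq_one.mp (by rw [← hcard, h, card_bot]))
    have h1 := P.card_normal_ge hne hc hg₀ hmove (map_subtype_le _) hW1 hWn
    rw [hcard] at h1
    have h2 : Nat.card X ≤ Nat.card P.N :=
      card_le_of_le (hXN.trans (inf_comm _ _).le)
    have h3 := P.card_T hne hc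
    have h4 := P.card_N_le hc
    have h5 := P.five
    set a := Nat.card P.T with ha
    have h6 : (2 * a) ^ (n + 1) ≤ 2 ^ (n + 1) * n.factorial ^ n := by
      rw [mul_pow]; exact Nat.mul_le_mul_left _ (h1.trans (h2.trans h4))
    rw [h3, pow_succ n.factorial, mul_comm] at h6
    have h7 := Nat.le_of_mul_le_mul_right h6 (by positivity)
    have h8 := two_pow_lt_factorial h5
    omega

/-- The two kernels meet trivially. -/
theorem Pair.N_eq_bot : P.N = ⊥ := by
  by_cases hne : P.K = ⊥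
  · exact le_bot_iff.mp (hne ▸ inf_le_left)
  rcases P.not_both_nontriv hne with hc | hc
  · exact P.N_eq_bot_of_coreTriv hne hc
  · rw [Pair.N, inf_comm]
    exact P.symm.N_eq_bot_of_coreTriv (P.symm_K_ne_bot hne) hc

end Cfsg.Lib.Recog.AltSub
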